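import Cfsg.Agent.Lib.D4Spectrum.Gens
import Cfsg.Agent.Lib.D4Spectrum.Data

/-!
Kernel checks on the packed data.
-/

set_option autoImplicit false
set_option maxRecDepth 100000

namespace CfsgLib.D4Spec

open Data

/-- The code of a word in the generators. -/
def evalW (w : List ℕ) : List ℕ := w.foldl (fun A i => mmul A (gens.getD i one8)) one8

/-- The zero matrix. -/
def zero8 : List ℕ := [0, 0, 0, 0, 0, 0, 0, 0]

/-- An entry. -/
def ent (A : List ℕ) (i j : ℕ) : ℕ := dig (A.getD i 0) j

/-- A nonzero minor of order two. -/
def minor2 (A : List ℕ) : Bool :=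
  match (List.range 8).find? fun i => !(A.getD i 0 == 0) with
  | none => false
  | some i =>
    match (List.range 8).find? fun j => !(ent A i j == 0) with
    | none => false
    | some j =>
      (List.range 8).any fun k => (List.range 8).any fun l =>
        !(dig (scal (ent A i j) (ent A k l)) 0 ^^^ dig (scal (ent A i l) (ent A k j)) 0 == 0)

/-- The condition on a unipotent element. -/
def leafOK (u : List ℕ) : Bool :=
  let n := madd u one8
  let n2 := mmul n n
  let n3 := mmul n2 n
  let n4 := mmul n2 n2
  (mmul n4 n3 == zero8) && ((!(n4 == zero8) && wf n4) || n3 == zero8 || minor2 n3)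

/-- The words of a layer. -/
def layW (k c : ℕ) : List (ℕ × ℕ) :=
  ([[(18, c), (13, sq8 c), (12, sq8 (sq8 c))], [(14, c)], [(19, c), (16, sq8 c), (15, sq8 (sq8 c))],
    [(17, c), (20, sq8 c), (21, sq8 (sq8 c))], [(22, c)], [(23, c)]] : List (List (ℕ × ℕ))).getD k []

/-- A precomputed layer element. -/
def layC (k c : ℕ) : List ℕ := (layers.getD k []).getD c one8

/-- All unipotent elements with a given first coordinate. -/
def chkFirst (c0 : ℕ) : Bool :=
  let a0 := layC 0 c0
  (List.range 2).all fun c1 =>
    let a1 := mmul a0 (layC 1 c1)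
    (List.range 8).all fun c2 =>
      let a2 := mmul a1 (layC 2 c2)
      (List.range 8).all fun c3 =>
        let a3 := mmul a2 (layC 3 c3)
        (List.range 2).all fun c4 =>
          let a4 := mmul a3 (layC 4 c4)
          (List.range 2).all fun c5 => leafOK (mmul a4 (layC 5 c5))

/-- A power. -/
def powC (A : List ℕ) : ℕ → List ℕ
  | 0 => one8
  | n + 1 => mmul (powC A n) A

/-- A scalar diagonal code. -/
def diagC (d : List ℕ) : List ℕ := (List.range 8).map fun i => d.getD i 0 <<< (3 * i)

/-- The closure data of a list. -/
def chkList (els : List (List ℕ × ℕ × ℕ)) (words : List (List ℕ)) : Bool :=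
  let cs := els.map fun e => e.1
  let gs := words.map evalW
  (words.all fun w => w.all fun i => decide (i < 16)) &&
  (cs.getD 0 [] == one8) && (cs.all wf) && decide cs.Nodup &&
  ((List.range els.length).all fun k => k == 0 ||
    (decide ((els.getD k ([], 0, 0)).2.1 < k) && decide ((els.getD k ([], 0, 0)).2.2 < words.length) &&
      (cs.getD k [] == mmul (cs.getD (els.getD k ([], 0, 0)).2.1 [])
        (gs.getD (els.getD k ([], 0, 0)).2.2 [])))) &&
  (cs.all fun e => gs.all fun g => cs.contains (mmul e g))

/-- A certificate that there is no fixed vector but zero. -/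
def certFree (x C : List ℕ) : Bool := (x.length == 8) && (mmul C (madd x one8) == one8)

/-- A certificate of a small fixed space. -/
def certSmall (x A B : List ℕ) : Bool :=
  (x.length == 8) && (B.length == 4) && (mmul (mmul x x) x == one8) &&
    (mmul A B == madd (madd one8 x) (mmul x x))

/-- A certificate of a double eigenvalue one with the others simple. -/
def certDiag (x P Qd : List ℕ) : Bool :=
  let Q := Qd.take 8
  let d := Qd.drop 8
  (mmul P Q == one8) && (mmul Q P == one8) && (mmul (mmul Q x) P == diagC d) && (d.length == 8) &&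
    ((List.range 8).all fun i => decide (d.getD i 0 < 8)) &&
    ((List.range 8).filter fun i => d.getD i 0 == 1).length == 2 &&
    ((List.range 8).all fun i => (List.range 8).all fun j =>
      i == j || !(d.getD i 0 == d.getD j 0) || (d.getD i 0 == 1))

/-- The certificate of an element. -/
def certOK (x : List ℕ) (c : ℕ × List ℕ × List ℕ) : Bool :=
  match c.1 with
  | 0 => x == one8
  | 1 => certFree x c.2.1
  | 2 => certSmall x c.2.1 c.2.2
  | _ => certDiag x c.2.1 c.2.2

/-- Certificates of allowed kinds for a list. -/
def chkCerts (els : List (List ℕ × ℕ × ℕ)) (certs : List (ℕ × List ℕ × List ℕ)) (kind : ℕ) : Bool :=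
  (List.range els.length).all fun k =>
    let c := certs.getD k (4, [], [])
    (decide (c.1 ≤ 1) || c.1 == kind) && certOK (els.getD k ([], 0, 0)).1 c

theorem chkGens : genW.map wordC = gens := by decide +kernel

theorem chkLay : ∀ k < 6, ∀ c < 8, okW (layW k c) = true ∧
    ((k = 1 ∨ k = 4 ∨ k = 5 → c < 2) → layC k c = wordC (layW k c)) := by decide +kernel

theorem chkPar : ∀ c < 8, sq8 c = c → c < 2 := by decide +kernel

theorem chkList13 : chkList els13 words13 = true ∧ els13.length = 13 := by decide +kernel

theorem chkList7 : chkList els7 words7 = true ∧ els7.length = 49 := by decide +kernel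

theorem chkList3 : chkList els3 words3 = true ∧ els3.length = 81 := by decide +kernel

theorem chkCerts13 : chkCerts els13 certs13 1 = true := by decide +kernel

theorem chkCerts7 : chkCerts els7 certs7 3 = true := by decide +kernel

theorem chkCerts3 : chkCerts els3 certs3 2 = true := by decide +kernel

/-- Words of elements of the orders `4, 6, 8, 12, 14, 28`, with proper maximal divisors. -/
def ordW : List (ℕ × List ℕ × List ℕ) :=
  [(2, [3, 3, 7], [1]), (4, [15, 11, 15, 11], [2]), (6, [14, 15, 0], [3, 2]), (8, [1, 7, 15], [4]),
    (12, [14, 1, 0], [6, 4]), (14, [10, 7, 15, 1], [7, 2]), (28, [14, 5, 4], [14, 4])]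

theorem chkOrd : (ordW.all fun e => (e.2.1.all fun i => decide (i < 16)) &&
    (powC (evalW e.2.1) e.1 == one8) &&
      e.2.2.all fun d => !(powC (evalW e.2.1) d == one8)) = true := by decide +kernel

end CfsgLib.D4Spec
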