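import Cfsg.Agent.Lib.D4Spectrum.Checks

/-!
The checks on the unipotent subgroup, part C.
-/

set_option autoImplicit false
set_option maxRecDepth 100000

namespace CfsgLib.D4Spec

theorem chkU4 : chkFirst 4 = true := by decide +kernel

theorem chkU5 : chkFirst 5 = true := by decide +kernel

end CfsgLib.D4Spec
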