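import Cfsg.Agent.Lib.D4Spectrum.ChecksUnipA
import Cfsg.Agent.Lib.D4Spectrum.ChecksUnipB
import Cfsg.Agent.Lib.D4Spectrum.ChecksUnipC
import Cfsg.Agent.Lib.D4Spectrum.ChecksUnipD

/-!
The checks on the unipotent subgroup.
-/

set_option autoImplicit false

namespace CfsgLib.D4Spec

theorem chkU : ∀ c0 < 8, chkFirst c0 = true := by
  intro c0 h
  interval_cases c0
  exacts [chkU0, chkU1, chkU2, chkU3, chkU4, chkU5, chkU6, chkU7]

end CfsgLib.D4Spec
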