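import Mathlib

/-!
Packed `8 × 8` matrices over the field with eight elements: a row is a number below `2^24`, an
entry three of its bits.
-/

set_option autoImplicit false
set_option linter.unusedSectionVars false
set_option linter.unusedSimpArgs false

namespace CfsgLib.D4Spec

open Matrix

/-- The indices. -/
abbrev Ix := Fin 4 ⊕ Fin 4

/-- The position of an index. -/
def pos : Ix → ℕ
  | .inl i => i.val
  | .inr i => 4 + i.val

/-- A digit of a row. -/
def dig (v j : ℕ) : ℕ := (v >>> (3 * j)) % 8

/-- Multiplication of a row by the root of `X^3 + X + 1`. -/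
def xt (v : ℕ) : ℕ :=
  ((v &&& 0o33333333) <<< 1) ^^^
    (((v >>> 2) &&& 0o11111111) ^^^ (((v >>> 2) &&& 0o11111111) <<< 1))

/-- Multiplication of a row by a scalar. -/
def scal (c v : ℕ) : ℕ :=
  (bif c.testBit 0 then v else 0) ^^^ (bif c.testBit 1 then xt v else 0) ^^^
    (bif c.testBit 2 then xt (xt v) else 0)

/-- A row times a matrix. -/
def rowMul (a : ℕ) (B : List ℕ) : ℕ :=
  scal (dig a 0) (B.getD 0 0) ^^^ scal (dig a 1) (B.getD 1 0) ^^^ scal (dig a 2) (B.getD 2 0) ^^^
  scal (dig a 3) (B.getD 3 0) ^^^ scal (dig a 4) (B.getD 4 0) ^^^ scal (dig a 5) (B.getD 5 0) ^^^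
  scal (dig a 6) (B.getD 6 0) ^^^ scal (dig a 7) (B.getD 7 0)

/-- Product of packed matrices. -/
def mmul (A B : List ℕ) : List ℕ := A.map fun a => rowMul a B

/-- The identity. -/
def one8 : List ℕ := [0o1, 0o10, 0o100, 0o1000, 0o10000, 0o100000, 0o1000000, 0o10000000]

/-- Sum of packed matrices. -/
def madd : List ℕ → List ℕ → List ℕ
  | a :: A, b :: B => (a ^^^ b) :: madd A B
  | _, _ => []

/-- A packed matrix in normal form. -/
def wf (A : List ℕ) : Bool := A.length == 8 && A.all fun a => decide (a < 2 ^ 24)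

variable {K : Type*} [Field K] (om : K)

/-- The field element of three bits. -/
def el8 (a : ℕ) : K :=
  (bif a.testBit 0 then 1 else 0) + (bif a.testBit 1 then om else 0) +
    (bif a.testBit 2 then om ^ 2 else 0)

/-- The matrix of a packed matrix. -/
def mat (A : List ℕ) : Matrix Ix Ix K := Matrix.of fun x y => el8 om (dig (A.getD (pos x) 0) (pos y))

theorem testBit_dig (v j i : ℕ) : (dig v j).testBit i = (decide (i < 3) && v.testBit (3 * j + i)) := by
  rw [dig, show (8 : ℕ) = 2 ^ 3 from rfl, Nat.testBit_mod_two_pow, Nat.testBit_shiftRight]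

theorem dig_xor (v w j : ℕ) : dig (v ^^^ w) j = dig v j ^^^ dig w j := by
  refine Nat.eq_of_testBit_eq fun i => ?_
  simp only [testBit_dig, Nat.testBit_xor]
  cases decide (i < 3) <;> simp

theorem dig_lt (v j : ℕ) : dig v j < 8 := Nat.mod_lt _ (by norm_num)

theorem dig_zero (j : ℕ) : dig 0 j = 0 := by simp [dig]

variable [CharP K 2]

theorem el8_zero : el8 om 0 = 0 := by simp [el8]

theorem el8_one : el8 om 1 = 1 := by
  simp [el8, show Nat.testBit 1 1 = false from rfl, show Nat.testBit 1 2 = false from rfl]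

theorem el8_xor (a b : ℕ) : el8 om (a ^^^ b) = el8 om a + el8 om b := by
  simp only [el8, Nat.testBit_xor]
  cases a.testBit 0 <;> cases b.testBit 0 <;> cases a.testBit 1 <;> cases b.testBit 1 <;>
    cases a.testBit 2 <;> cases b.testBit 2 <;>
    simp <;> ring_nf <;> simp [CharTwo.two_eq_zero]

theorem el8_mul_two (a : ℕ) (hom : om ^ 3 = om + 1) :
    (bif a.testBit 2 then 1 else 0) + (bif (a.testBit 0 ^^ a.testBit 2) then om else 0) +
      (bif a.testBit 1 then om ^ 2 else 0) = om * el8 om a := by
  simp only [el8]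
  cases a.testBit 0 <;> cases a.testBit 1 <;> cases a.testBit 2 <;>
    simp <;> first | ring1 | linear_combination (norm := (ring_nf; simp [CharTwo.two_eq_zero])) hom

theorem el8_dig_xt (hom : om ^ 3 = om + 1) (v : ℕ) {j : ℕ} (hj : j < 8) :
    el8 om (dig (xt v) j) = om * el8 om (dig v j) := by
  rw [← el8_mul_two om _ hom, el8]
  have hs : ∀ i, i < 26 → Nat.testBit 2396745 i = decide (i % 3 = 0 ∧ i < 24) := by decide
  have hb : ∀ i, i < 26 → Nat.testBit 7190235 i = decide (i % 3 < 2 ∧ i < 24) := by decide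
  have key : (dig (xt v) j).testBit 0 = (dig v j).testBit 2 ∧
      (dig (xt v) j).testBit 1 = ((dig v j).testBit 0 ^^ (dig v j).testBit 2) ∧
      (dig (xt v) j).testBit 2 = (dig v j).testBit 1 := by
    interval_cases j <;>
      simp (config := { decide := true }) only [testBit_dig, xt, Nat.testBit_xor, Nat.testBit_and,
        Nat.testBit_shiftLeft, Nat.testBit_shiftRight, Bool.true_and, Bool.and_true, Bool.false_and,
        Bool.and_false, Bool.xor_false, Bool.false_xor, decide_true, decide_false, Nat.reduceMul,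
        Nat.reduceAdd, Nat.reduceSub, and_self, true_and] <;>
      simp (config := { decide := true }) [hs, hb]
  rw [key.1, key.2.1, key.2.2]

variable (hom : om ^ 3 = om + 1)
include hom

theorem el8_dig_scal (c v : ℕ) {j : ℕ} (hj : j < 8) :
    el8 om (dig (scal c v) j) = el8 om c * el8 om (dig v j) := by
  simp only [scal, dig_xor, el8_xor]
  conv_rhs => rw [el8]
  cases c.testBit 0 <;> cases c.testBit 1 <;> cases c.testBit 2 <;>
    simp only [cond_true, cond_false, dig_zero, el8_zero, el8_dig_xt om hom _ hj, zero_add, add_zero,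
      zero_mul, add_mul, one_mul, pow_two, mul_assoc]

/-- The field product of two codes. -/
theorem el8_scal {c v : ℕ} (hv : v < 8) : el8 om (dig (scal c v) 0) = el8 om c * el8 om v := by
  rw [el8_dig_scal om hom c v (by norm_num : 0 < 8)]
  congr 2
  rw [dig, mul_zero, Nat.shiftRight_zero, Nat.mod_eq_of_lt hv]

omit hom in
theorem pos_lt (x : Ix) : pos x < 8 := by
  rcases x with i | i <;> simp only [pos] <;> omega

theorem mat_mmul (A B : List ℕ) : mat om (mmul A B) = mat om A * mat om B := by
  ext x y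
  have hz : rowMul 0 B = 0 := by simp [rowMul, dig_zero, scal]
  have hx : (mmul A B).getD (pos x) 0 = rowMul (A.getD (pos x) 0) B := by
    rw [mmul]
    by_cases h : pos x < A.length
    · rw [List.getD_eq_getElem _ _ (by simpa using h), List.getD_eq_getElem _ _ h, List.getElem_map]
    · rw [List.getD_eq_default _ _ (by simpa using Nat.not_lt.1 h),
        List.getD_eq_default _ _ (Nat.not_lt.1 h), hz]
  simp only [mat, Matrix.of_apply, Matrix.mul_apply, Fintype.sum_sum_type, Fin.sum_univ_four]
  rw [hx, rowMul]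
  simp only [dig_xor, el8_xor, el8_dig_scal om hom _ _ (pos_lt y)]
  simp only [pos, Fin.val_zero, Fin.val_one, Fin.val_two, show ((3 : Fin 4) : ℕ) = 3 from rfl,
    Nat.reduceAdd]
  ring

omit hom in
theorem mat_one8 : mat om one8 = 1 := by
  have h : ∀ x y : Ix, dig (one8.getD (pos x) 0) (pos y) = if x = y then 1 else 0 := by decide
  ext x y
  simp only [mat, Matrix.of_apply, h, Matrix.one_apply]
  split_ifs
  · exact el8_one om
  · exact el8_zero om

omit hom in
theorem madd_getD (A B : List ℕ) (h : A.length = B.length) (i : ℕ) :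
    (madd A B).getD i 0 = A.getD i 0 ^^^ B.getD i 0 := by
  induction A generalizing B i with
  | nil =>
    obtain rfl : B = [] := List.length_eq_zero_iff.1 h.symm
    simp [madd]
  | cons a A ih =>
    obtain _ | ⟨b, B⟩ := B
    · simp at h
    rcases i with _ | i
    · simp [madd]
    · simpa [madd] using ih B (by simpa using h) i

omit hom in
theorem mat_madd {A B : List ℕ} (h : A.length = B.length) :
    mat om (madd A B) = mat om A + mat om B := by
  ext x y
  simp only [mat, Matrix.of_apply, Matrix.add_apply, madd_getD A B h, dig_xor, el8_xor]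

/-- A code of an inverse. -/
def inv8 (a : ℕ) : ℕ := [0, 1, 5, 6, 7, 2, 3, 4].getD a 0

theorem el8_ne_zero {a : ℕ} (ha : a < 8) (h : a ≠ 0) : el8 om a ≠ 0 := by
  intro e
  have hc : ∀ a < 8, a ≠ 0 → dig (scal a (inv8 a)) 0 = 1 ∧ inv8 a < 8 := by decide
  obtain ⟨h1, h2⟩ := hc a ha h
  have := el8_scal om hom (c := a) h2
  rw [h1, e, zero_mul, el8_one] at this
  exact one_ne_zero this

theorem el8_inj {a b : ℕ} (ha : a < 8) (hb : b < 8) (h : el8 om a = el8 om b) : a = b := by
  by_contra hne
  refine el8_ne_zero om hom (Nat.xor_lt_two_pow (n := 3) ha hb) ?_ ?_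
  · exact fun e => hne (Nat.xor_eq_zero_iff.1 e)
  · rw [el8_xor, h, CharTwo.add_self_eq_zero]

theorem exists_el8 [Fintype K] (hK : Fintype.card K = 8) (t : K) : ∃ a < 8, el8 om a = t := by
  have hinj : Function.Injective fun a : Fin 8 => el8 om (a : ℕ) := fun a b h =>
    Fin.ext (el8_inj om hom a.2 b.2 h)
  have hb := (Fintype.bijective_iff_injective_and_card _).2 ⟨hinj, by simp [hK]⟩
  obtain ⟨a, rfl⟩ := hb.2 t
  exact ⟨a.val, a.2, rfl⟩

theorem mat_inj {A B : List ℕ} (hA : wf A = true) (hB : wf B = true)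
    (h : mat om A = mat om B) : A = B := by
  simp only [wf, Bool.and_eq_true, beq_iff_eq, List.all_eq_true, decide_eq_true_eq] at hA hB
  refine List.ext_getElem (hA.1.trans hB.1.symm) fun i hi hi' => ?_
  have hi8 : i < 8 := hA.1 ▸ hi
  obtain ⟨x, rfl⟩ : ∃ x : Ix, pos x = i := by
    have : ∀ i < 8, ∃ x : Ix, pos x = i := by decide
    exact this i hi8
  refine Nat.eq_of_testBit_eq fun n => ?_
  by_cases hn : n < 24
  · obtain ⟨y, hy⟩ : ∃ y : Ix, pos y = n / 3 := by
      have : ∀ i < 8, ∃ x : Ix, pos x = i := by decide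
      exact this _ (by omega)
    have e := congrFun (congrFun h x) y
    simp only [mat, Matrix.of_apply] at e
    have e2 := congrArg (fun d => Nat.testBit d (n % 3)) (el8_inj om hom (dig_lt _ _) (dig_lt _ _) e)
    simp only [testBit_dig, hy, Nat.mod_lt n (by norm_num : 3 > 0), decide_true, Bool.true_and,
      Nat.div_add_mod] at e2
    rwa [List.getD_eq_getElem _ _ hi, List.getD_eq_getElem _ _ hi'] at e2
  · rw [Nat.testBit_lt_two_pow, Nat.testBit_lt_two_pow]
    · exact (hB.2 _ (List.getElem_mem hi')).trans_le (Nat.pow_le_pow_right (by norm_num) (by omega))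
    · exact (hA.2 _ (List.getElem_mem hi)).trans_le (Nat.pow_le_pow_right (by norm_num) (by omega))

end CfsgLib.D4Spec
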