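import Cfsg.Agent.Lib.D4Spectrum.Spectrum

/-!
A finite group extended by powers of a module over a field of characteristic two.
-/

set_option autoImplicit false
set_option linter.unusedSectionVars false

namespace CfsgLib.D4Spec

open Matrix

variable {G : Type*} [Group G] {K : Type*} [Field K] {ι : Type} [Fintype ι] [DecidableEq ι]
  (r : G →* Matrix ι ι K) (k : ℕ)

/-- The action on `k` copies of the module. -/
def modAut : G →* MulAut (Multiplicative (Fin k → ι → K)) where
  toFun g :=
    { toFun := fun v => Multiplicative.ofAdd fun i => r g *ᵥ v.toAdd i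
      invFun := fun v => Multiplicative.ofAdd fun i => r g⁻¹ *ᵥ v.toAdd i
      left_inv := fun v => by
        apply Multiplicative.toAdd.injective
        funext i
        simp [Matrix.mulVec_mulVec, ← map_mul]
      right_inv := fun v => by
        apply Multiplicative.toAdd.injective
        funext i
        simp [Matrix.mulVec_mulVec, ← map_mul]
      map_mul' := fun v w => by
        apply Multiplicative.toAdd.injective
        funext i
        simp [Matrix.mulVec_add] }
  map_one' := by
    ext v : 1
    apply Multiplicative.toAdd.injective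
    funext i
    simp
  map_mul' g h := by
    ext v : 1
    apply Multiplicative.toAdd.injective
    funext i
    simp [Matrix.mulVec_mulVec]

/-- The extension. -/
abbrev Ext := Multiplicative (Fin k → ι → K) ⋊[modAut r k] G

theorem ext_pow (x : Ext r k) (n : ℕ) : (x ^ n).right = x.right ^ n ∧
    ∀ i, (x ^ n).left.toAdd i = (∑ j ∈ Finset.range n, r x.right ^ j) *ᵥ x.left.toAdd i := by
  induction n with
  | zero => simp
  | succ n ih =>
    refine ⟨by rw [pow_succ, SemidirectProduct.mul_right, ih.1, pow_succ], fun i => ?_⟩
    rw [pow_succ, SemidirectProduct.mul_left, toAdd_mul, Pi.add_apply, ih.2 i, Finset.sum_range_succ,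
      Matrix.add_mulVec, ih.1, ← map_pow]
    rfl

/-- Orders in the extension are orders in the group. -/
theorem range_orderOf_ext [CharP K 2] [Finite G]
    (h : ∀ g : G, (∑ j ∈ Finset.range (orderOf g), r g ^ j) = 0 ∨ ∃ h : G, orderOf h = 2 * orderOf g) :
    Set.range (orderOf : Ext r k → ℕ) = Set.range (orderOf : G → ℕ) := by
  refine Set.Subset.antisymm ?_ ?_
  · rintro _ ⟨x, rfl⟩
    set o := orderOf x.right
    have hdvd : o ∣ orderOf x :=
      orderOf_map_dvd (SemidirectProduct.rightHom : Ext r k →* G) x
    obtain ⟨e1, e2⟩ := ext_pow r k x o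
    by_cases hN : x ^ o = 1
    · exact ⟨x.right, Nat.dvd_antisymm hdvd (orderOf_dvd_of_pow_eq_one hN)⟩
    rcases h x.right with h0 | ⟨y, hy⟩
    · refine absurd (SemidirectProduct.ext ?_ ?_) hN
      · apply Multiplicative.toAdd.injective
        funext i
        rw [e2, show (∑ j ∈ Finset.range o, r x.right ^ j) = 0 from h0, Matrix.zero_mulVec]
        rfl
      · rw [e1, pow_orderOf_eq_one]; rfl
    refine ⟨y, ?_⟩
    rw [hy]
    have h2 : x ^ (2 * o) = 1 := by
      rw [mul_comm, pow_mul, pow_two]
      refine SemidirectProduct.ext ?_ ?_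
      · rw [SemidirectProduct.mul_left, e1, pow_orderOf_eq_one, map_one, MulAut.one_apply]
        apply Multiplicative.toAdd.injective
        funext i
        simp only [toAdd_mul, Pi.add_apply]
        funext a
        exact CharTwo.add_self_eq_zero _
      · rw [SemidirectProduct.mul_right, e1, pow_orderOf_eq_one, one_mul]; rfl
    obtain ⟨q, hq⟩ := hdvd
    have hd : o * q ∣ o * 2 := by rw [← hq, mul_comm o 2]; exact orderOf_dvd_of_pow_eq_one h2
    have ho : 0 < o := orderOf_pos _
    rcases (Nat.dvd_prime Nat.prime_two).1 ((Nat.mul_dvd_mul_iff_left ho).1 hd) with rfl | rfl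
    · rw [mul_one] at hq
      exact absurd (hq ▸ pow_orderOf_eq_one x) hN
    · rw [hq, mul_comm]
  · rintro _ ⟨g, rfl⟩
    exact ⟨SemidirectProduct.inr g, orderOf_injective _ SemidirectProduct.inr_injective g⟩

/-- A carrier with no arithmetic of its own. -/
structure Carrier (n : ℕ) where
  /-- The label. -/
  idx : Fin n

/-- The carrier is the set of labels. -/
def carrierEquiv (n : ℕ) : Carrier n ≃ Fin n := ⟨Carrier.idx, Carrier.mk, fun _ => rfl, fun _ => rfl⟩

instance (n : ℕ) : Fintype (Carrier n) := Fintype.ofEquiv _ (carrierEquiv n).symm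

/-- A finite group moved to a carrier in the lowest universe. -/
theorem exists_fin_model (E : Type*) [Group E] [Finite E] :
    ∃ (H : Type) (_ : Group H) (_ : Fintype H), Fintype.card H = Nat.card E ∧
      Set.range (orderOf : H → ℕ) = Set.range (orderOf : E → ℕ) := by
  let e : E ≃ Carrier (Nat.card E) := (Finite.equivFin E).trans (carrierEquiv _).symm
  letI : Group (Carrier (Nat.card E)) := e.symm.group
  refine ⟨Carrier (Nat.card E), inferInstance, inferInstance, ?_, ?_⟩
  · rw [Fintype.card_congr (carrierEquiv _), Fintype.card_fin]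
  let m : E ≃* Carrier (Nat.card E) :=
    { e with
      map_mul' := fun a b => by
        show e (a * b) = e (e.symm (e a) * e.symm (e b))
        rw [e.symm_apply_apply, e.symm_apply_apply] }
  rw [← m.surjective.range_comp]
  exact congrArg Set.range (funext fun x => MulEquiv.orderOf_eq m x)

end CfsgLib.D4Spec
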