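import Cfsg.Agent.Lib.D4Spectrum.Hom

/-!
Words in root elements and generators of `³D₄(2)` in the natural representation.
-/

set_option autoImplicit false
set_option maxRecDepth 100000
set_option maxHeartbeats 1000000
set_option linter.unusedSectionVars false

namespace CfsgLib.D4Spec

open Matrix Cfsg.Lie CfsgLib.Chev

variable {K : Type*} [Field K] [CharP K 2] (om : K)

/-- Squaring a code. -/
def sq8 (c : ℕ) : ℕ := dig (scal c c) 0

/-- The packed matrix of a word in root elements. -/
def wordC (w : List (ℕ × ℕ)) : List ℕ := w.foldr (fun p A => mmul (rootC p.1 p.2) A) one8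

/-- A word is in range. -/
def okW (w : List (ℕ × ℕ)) : Bool := w.all fun p => decide (p.1 < 24) && decide (p.2 < 8)

/-- The element of a word. -/
noncomputable def wordG (w : List (ℕ × ℕ)) : GL chevD4.Idx K :=
  (w.map fun p => X chevD4 p.1 (el8 om p.2)).prod

theorem nroots_D4 : chevD4.nroots = 24 := by decide +kernel

theorem tabD4_n : tabD4.n = 24 := by decide +kernel

variable (hom : om ^ 3 = om + 1)
include hom

theorem natHom_word {w : List (ℕ × ℕ)} (hw : okW w = true) :
    ∃ h : wordG om w ∈ chevD4.group K, natHom ⟨wordG om w, h⟩ = mat om (wordC w) := by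
  induction w with
  | nil => exact ⟨one_mem _, (map_one natHom).trans (mat_one8 om).symm⟩
  | cons p w ih =>
    simp only [okW, List.all_cons, Bool.and_eq_true, decide_eq_true_eq] at hw
    obtain ⟨h, e⟩ := ih hw.2
    have hp : X chevD4 p.1 (el8 om p.2) ∈ chevD4.group K :=
      certD4.X_mem_group (by rw [tabD4_n]; exact hw.1.1) _
    have e1 : wordG om (p :: w) = X chevD4 p.1 (el8 om p.2) * wordG om w := by
      rw [wordG, List.map_cons, List.prod_cons]; rfl
    refine ⟨e1 ▸ mul_mem hp h, ?_⟩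
    rw [show (⟨wordG om (p :: w), e1 ▸ mul_mem hp h⟩ : ↥(chevD4.group K)) =
        ⟨_, hp⟩ * ⟨_, h⟩ from Subtype.ext e1, map_mul, e,
      natHom_root om (by rw [nroots_D4]; exact hw.1.1) hw.1.2 hp, ← mat_mmul om hom]
    rfl

omit hom in
theorem coe_wordG (w : List (ℕ × ℕ)) : (wordG om w : Matrix chevD4.Idx chevD4.Idx K) =
    chevD4.wordMat K (w.map fun p => (p.1, el8 om p.2)) := by
  induction w with
  | nil => rfl
  | cons p w ih =>
    simp only [wordG, List.map_cons, List.prod_cons, Units.val_mul, ChevalleyDatum.wordMat,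
      certD4.coe_X] at ih ⊢
    rw [ih]

theorem el8_sq8 {c : ℕ} (hc : c < 8) : el8 om (sq8 c) = el8 om c ^ 2 := by
  rw [sq8, el8_scal om hom hc, pow_two]

omit hom in
/-- The words of the generators. -/
def genW : List (List (ℕ × ℕ)) :=
  ((List.range 7).flatMap fun i =>
    [[(18, i + 1), (13, sq8 (i + 1)), (12, sq8 (sq8 (i + 1)))],
     [(5, i + 1), (10, sq8 (i + 1)), (11, sq8 (sq8 (i + 1)))]]) ++ [[(14, 1)], [(9, 1)]]

omit hom in
theorem chkGenW : genW.all okW = true ∧ genW.length = 16 := by decide +kernel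

theorem wordG_mem {w : List (ℕ × ℕ)} (hw : w ∈ genW) :
    wordG om w ∈ twistedD4 K 2 := by
  refine Subgroup.subset_closure ⟨w.map fun p => (p.1, el8 om p.2), ?_, coe_wordG om w⟩
  simp only [genW, List.mem_append, List.mem_flatMap, List.mem_range, List.mem_cons,
    List.not_mem_nil, or_false] at hw
  rcases hw with ⟨i, hi, rfl | rfl⟩ | rfl | rfl
  · refine Or.inr ⟨el8 om (i + 1), (d4p1, d4p3, d4p4), by simp, ?_⟩
    simp only [List.map_cons, List.map_nil]
    rw [el8_sq8 om hom (c := sq8 (i + 1)) (dig_lt _ _), el8_sq8 om hom (by omega : i + 1 < 8), ← pow_mul]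
    rfl
  · refine Or.inr ⟨el8 om (i + 1), (d4m1, d4m3, d4m4), by simp, ?_⟩
    simp only [List.map_cons, List.map_nil]
    rw [el8_sq8 om hom (c := sq8 (i + 1)) (dig_lt _ _), el8_sq8 om hom (by omega : i + 1 < 8), ← pow_mul]
    rfl
  · exact Or.inl ⟨1, one_pow _, d4p2, by simp, by simp [el8_one, d4p2]⟩
  · exact Or.inl ⟨1, one_pow _, d4m2, by simp, by simp [el8_one, d4m2]⟩

end CfsgLib.D4Spec
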