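import Cfsg.Agent.Lib.D4Spectrum.Code
import Cfsg.Agent.Lib.Chev.OrthModels
import Cfsg.Agent.Lib.Chev.TwistD4Layers

/-!
The natural representation of `D₄(K)` in characteristic two and the packed matrices of root
elements.
-/

set_option autoImplicit false
set_option maxRecDepth 100000
set_option maxHeartbeats 1000000
set_option linter.unusedSectionVars false

namespace CfsgLib.D4Spec

open Matrix QuadraticMap Cfsg.Lie CfsgLib.ChevOrth CfsgLib.Chev

variable {K : Type*} [Field K] [CharP K 2]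

theorem hoffD4 : modelD4.chkOff = true := by decide +kernel

theorem hconnD4 : modelD4.chkConn [Sum.inl 0]
    [(.inl 0, .inl 1), (.inl 1, .inl 2), (.inl 2, .inl 3), (.inl 3, .inr 2), (.inr 2, .inr 1),
      (.inr 1, .inr 0), (.inl 2, .inr 3)] = true := by decide +kernel

section Generic

variable {D : ChevalleyDatum} {ι : Type} [Fintype ι] [DecidableEq ι] {M : Model D ι}
  {Fr : Frame K ι} {ev : Fr.m = M.m}

theorem rel_root (h : Fits M Fr ev) {W : GL D.Idx K} (r : Fin D.nroots) (t : K)
    (hW : (W : Matrix D.Idx D.Idx K) = D.xMat K r t) :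
    (W, h.root r t) ∈ Fits.rel M Fr := by
  intro v
  show M.rho K ((W : Matrix D.Idx D.Idx K) *ᵥ v) * ((h.root r t : GL ι K) : Matrix ι ι K) =
    ((h.root r t : GL ι K) : Matrix ι ι K) * M.rho K v
  rw [hW, h.coe_root]
  exact M.rho_xMat h.short (h.equiv r) t v

theorem exists_rel (h : Fits M Fr ev) {W : GL D.Idx K} (hW : W ∈ D.group K) :
    ∃ g, (W, g) ∈ Fits.rel M Fr := by
  induction hW using Subgroup.closure_induction with
  | mem W hW => obtain ⟨r, t, e⟩ := hW; exact ⟨_, rel_root h r t e⟩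
  | one => exact ⟨1, one_mem _⟩
  | mul a b _ _ ha hb =>
    obtain ⟨A, hA⟩ := ha; obtain ⟨B, hB⟩ := hb
    refine ⟨A * B, ?_⟩
    rw [← Prod.mk_mul_mk]
    exact Subgroup.mul_mem _ hA hB
  | inv a _ ha =>
    obtain ⟨A, hA⟩ := ha
    refine ⟨A⁻¹, ?_⟩
    rw [← Prod.inv_mk]
    exact Subgroup.inv_mem _ hA

theorem rel_one (h : Fits M Fr ev) (hm : 0 < Fr.m) {a₀ : ι} {edges : List (ι × ι)}
    (hoff : M.chkOff = true) (hconn : M.chkConn [a₀] edges = true) {g : Fr.O}
    (hg : ((1 : GL D.Idx K), g) ∈ Fits.rel M Fr) : g = 1 := by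
  have hcomm : ∀ j, ((g : GL ι K) : Matrix ι ι K) * toM K (M.R j) =
      toM K (M.R j) * ((g : GL ι K) : Matrix ι ι K) := fun j => by
    have h' : M.rho K ((((1 : GL D.Idx K), g).1 : Matrix D.Idx D.Idx K) *ᵥ Pi.single j 1) *
        ((g : GL ι K) : Matrix ι ι K) = ((g : GL ι K) : Matrix ι ι K) * M.rho K (Pi.single j 1) :=
      hg (Pi.single j 1)
    rw [show (((1 : GL D.Idx K), g).1 : Matrix D.Idx D.Idx K) = 1 from rfl, Matrix.one_mulVec,
      M.rho_single] at h'
    exact h'.symm
  have e := M.scalar_of_comm h.all_mem hoff hconn hcomm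
  generalize ((g : GL ι K) : Matrix ι ι K) a₀ a₀ = c at e
  let p : Fin Fr.m × Bool := (⟨0, hm⟩, false)
  have hQ : Fr.Q (Fr.e p + Fr.e (bar p)) = 1 := by
    rw [QuadraticMap.map_add Fr.Q, Fr.sing, Fr.sing, Fr.pair, if_pos rfl]
    simp
  have := g.2 (Fr.e p + Fr.e (bar p)) 0
  simp only [Units.coeHom_apply] at this
  rw [e, Matrix.smul_mulVec, Matrix.one_mulVec, QuadraticMap.map_smul, hQ] at this
  have hc : c = 1 := by
    have h2 : c * c = 1 := by simpa using this
    have : (c - 1) * (c - 1) = 0 := by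
      linear_combination h2 - (c - 1) * (CharTwo.two_eq_zero (R := K))
    exact sub_eq_zero.1 (mul_self_eq_zero.1 this)
  exact Subtype.ext (Units.ext (by rw [e, hc, one_smul]; rfl))

theorem rel_unique (h : Fits M Fr ev) (hm : 0 < Fr.m) {a₀ : ι} {edges : List (ι × ι)}
    (hoff : M.chkOff = true) (hconn : M.chkConn [a₀] edges = true) {W : GL D.Idx K} {g g' : Fr.O}
    (h1 : (W, g) ∈ Fits.rel M Fr) (h2 : (W, g') ∈ Fits.rel M Fr) : g = g' := by
  have := mul_mem (inv_mem h1) h2
  simp only [Prod.inv_mk, Prod.mk_mul_mk, inv_mul_cancel] at this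
  exact inv_mul_eq_one.1 (rel_one h hm hoff hconn this)

/-- The representation attached to a model. -/
noncomputable def repHom (h : Fits M Fr ev) (hm : 0 < Fr.m) {a₀ : ι} {edges : List (ι × ι)}
    (hoff : M.chkOff = true) (hconn : M.chkConn [a₀] edges = true) : ↥(D.group K) →* Fr.O where
  toFun W := (exists_rel h W.2).choose
  map_one' := rel_unique h hm hoff hconn (exists_rel h (one_mem _)).choose_spec (one_mem _)
  map_mul' A B := by
    have h1 := (exists_rel h (A * B).2).choose_spec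
    have h2 := Subgroup.mul_mem _ (exists_rel h A.2).choose_spec (exists_rel h B.2).choose_spec
    rw [Prod.mk_mul_mk, ← Subgroup.coe_mul] at h2
    exact rel_unique h hm hoff hconn h1 h2

theorem repHom_root (h : Fits M Fr ev) (hm : 0 < Fr.m) {a₀ : ι} {edges : List (ι × ι)}
    (hoff : M.chkOff = true) (hconn : M.chkConn [a₀] edges = true) (W : ↥(D.group K))
    (r : Fin D.nroots) (t : K) (hW : ((W : GL D.Idx K) : Matrix D.Idx D.Idx K) = D.xMat K r t) :
    repHom h hm hoff hconn W = h.root r t :=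
  rel_unique h hm hoff hconn (exists_rel h W.2).choose_spec (rel_root h r t hW)

/-- The representation as matrices. -/
noncomputable def repMat (h : Fits M Fr ev) (hm : 0 < Fr.m) {a₀ : ι} {edges : List (ι × ι)}
    (hoff : M.chkOff = true) (hconn : M.chkConn [a₀] edges = true) :
    ↥(D.group K) →* Matrix ι ι K :=
  ((Units.coeHom (Matrix ι ι K)).comp Fr.O.subtype).comp (repHom h hm hoff hconn)

theorem repMat_root (h : Fits M Fr ev) (hm : 0 < Fr.m) {a₀ : ι} {edges : List (ι × ι)}
    (hoff : M.chkOff = true) (hconn : M.chkConn [a₀] edges = true) (W : ↥(D.group K))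
    (r : Fin D.nroots) (t : K) (hW : ((W : GL D.Idx K) : Matrix D.Idx D.Idx K) = D.xMat K r t) :
    repMat h hm hoff hconn W = M.xh r t := by
  rw [← h.coe_root r t, ← repHom_root h hm hoff hconn W r t hW]
  rfl

end Generic

/-- The natural representation. -/
noncomputable def natHom : ↥(chevD4.group K) →* Matrix Ix Ix K :=
  repMat (fitsD4 K) (by show 0 < 4; norm_num) hoffD4 hconnD4

theorem natHom_X {r : ℕ} (hr : r < chevD4.nroots) (t : K) (h : X chevD4 r t ∈ chevD4.group K) :
    natHom ⟨X chevD4 r t, h⟩ = modelD4.xh ⟨r, hr⟩ t := by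
  refine repMat_root (fitsD4 K) _ hoffD4 hconnD4 _ ⟨r, hr⟩ t ?_
  rw [certD4.coe_X, ChevalleyDatum.x, dif_pos hr]

/-- The position of a signed index. -/
def sp (p : Fin 4 × Bool) : ℕ := pos (modelD4.idx p)

/-- The packed matrix of a root element. -/
def rootC (r c : ℕ) : List ℕ :=
  if h : r < chevD4.nroots then
    let d := datD4 ⟨r, h⟩
    match d.2.1 with
    | none => []
    | some q => (List.range 8).map fun i => (1 <<< (3 * i)) ^^^
        (bif i == sp q then c <<< (3 * sp (bar d.1)) else 0) ^^^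
        (bif i == sp d.1 then c <<< (3 * sp (bar q)) else 0)
  else []

theorem chkRoot : ∀ (r : Fin chevD4.nroots) (x y : IxD4),
    (val (modelD4.X r 2) x y == 0) = true ∧
    val (modelD4.X r 0) x y = (if x = y then 1 else 0) ∧
    ∀ c < 8, dig ((rootC r c).getD (pos x) 0) (pos y) =
      (if x = y then 1 else 0) ^^^ (if val (modelD4.X r 1) x y % 2 = 0 then 0 else c) := by
  decide +kernel

theorem chkRootLen : ∀ r : Fin chevD4.nroots, ∀ c < 8, wf (rootC r c) = true := by decide +kernel

variable (om : K)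

theorem int_cast_two (n : ℤ) : (n : K) = if n % 2 = 0 then 0 else 1 := by
  have e : (n : K) = ((n % 2 : ℤ) : K) := by
    conv_lhs => rw [← Int.emod_add_mul_ediv n 2]
    push_cast
    rw [(CharTwo.two_eq_zero (R := K))]; ring
  split_ifs with h
  · rw [e, h, Int.cast_zero]
  · rw [e, show n % 2 = 1 by omega, Int.cast_one]

/-- The root elements in the representation. -/
theorem natHom_root {r c : ℕ} (hr : r < chevD4.nroots) (hc : c < 8)
    (h : X chevD4 r (el8 om c) ∈ chevD4.group K) :
    natHom ⟨X chevD4 r (el8 om c), h⟩ = mat om (rootC r c) := by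
  rw [natHom_X hr]
  ext x y
  obtain ⟨h2, h0, h1⟩ := chkRoot ⟨r, hr⟩ x y
  simp only [Model.xh, Matrix.add_apply, Matrix.smul_apply, toM_apply, smul_eq_mul, beq_iff_eq.1 h2,
    h0, Int.cast_zero, mul_zero, add_zero, mat, Matrix.of_apply]
  rw [h1 c hc, el8_xor, int_cast_two (val (modelD4.X ⟨r, hr⟩ 1) x y)]
  split_ifs <;> simp [el8_one, el8_zero]

end CfsgLib.D4Spec
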