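import Mathlib

/-!
Linear algebra of isometries of an eight-dimensional space in characteristic two: when the norm
`1 + g + … + g^(n-1)` of an element of order `n` vanishes.
-/

set_option autoImplicit false
set_option linter.unusedSectionVars false

namespace CfsgLib.D4Spec

open Matrix Module

variable {K : Type*} [Field K] [CharP K 2] {ι : Type} [Fintype ι] [DecidableEq ι]

/-- No fixed vector but zero. -/
def FixFree (M : Matrix ι ι K) : Prop := ∀ w, M *ᵥ w = w → w = 0

/-- The fixed space has dimension at most four. -/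
def SmallFix (M : Matrix ι ι K) : Prop :=
  ∃ (A : Matrix ι (Fin 4) K) (B : Matrix (Fin 4) ι K), 1 + M + M ^ 2 = A * B

/-- Diagonalizable with a double eigenvalue one and all others simple. -/
def DoubleOne (M : Matrix ι ι K) : Prop :=
  ∃ (P Q : Matrix ι ι K) (d : ι → K) (p q : ι), P * Q = 1 ∧ Q * P = 1 ∧ p ≠ q ∧ d p = 1 ∧ d q = 1 ∧
    (∀ i j, d i = d j → i = j ∨ (i = p ∨ i = q) ∧ (j = p ∨ j = q)) ∧
    Q * M * P = Matrix.diagonal d

theorem add_self_matrix (A : Matrix ι ι K) : A + A = 0 := by
  ext i j; simp [CharTwo.add_self_eq_zero]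

theorem add_one_sq (A : Matrix ι ι K) : (A + 1) ^ 2 = A ^ 2 + 1 := by
  rw [pow_two, pow_two, add_mul, mul_add, one_mul, mul_one]
  calc A * A + A + (A + 1) = A * A + (A + A) + 1 := by abel
    _ = _ := by rw [add_self_matrix, add_zero]

theorem add_one_pow_two_pow (A : Matrix ι ι K) : ∀ a : ℕ, (A + 1) ^ (2 ^ a) = A ^ (2 ^ a) + 1
  | 0 => by simp
  | a + 1 => by rw [pow_succ, pow_mul, add_one_pow_two_pow A a, add_one_sq, ← pow_mul]

theorem sum_range_mul (g : Matrix ι ι K) (m n : ℕ) :
    ∑ j ∈ Finset.range (m * n), g ^ j =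
      (∑ j ∈ Finset.range m, g ^ j) * ∑ i ∈ Finset.range n, (g ^ m) ^ i := by
  induction n with
  | zero => simp
  | succ n ih =>
    rw [Nat.mul_succ, Finset.sum_range_add, ih, Finset.sum_range_succ (fun i => (g ^ m) ^ i), mul_add]
    congr 1
    rw [← pow_mul, Finset.sum_mul]
    exact Finset.sum_congr rfl fun j _ => by rw [pow_add, (Commute.pow_pow_self g (m * n) j).eq]

theorem geom_two (g : Matrix ι ι K) : ∑ j ∈ Finset.range 2, g ^ j = g + 1 := by
  simp [Finset.sum_range_succ, add_comm]

theorem geom_pow_two (g : Matrix ι ι K) : ∀ a : ℕ,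
    ∑ j ∈ Finset.range (2 ^ a), g ^ j = (g + 1) ^ (2 ^ a - 1)
  | 0 => by simp
  | a + 1 => by
    rw [pow_succ, sum_range_mul, geom_pow_two g a, geom_two, ← add_one_pow_two_pow, ← pow_add]
    congr 1
    have := Nat.one_le_two_pow (n := a)
    omega

theorem finrank_map_pow_le (f : (ι → K) →ₗ[K] (ι → K)) (S : Submodule K (ι → K)) (hS : S.map f ≤ S)
    (m : ℕ) (hm : S.map (f ^ m) = ⊥) :
    ∀ k, finrank K ↥(S.map (f ^ k)) ≤ finrank K ↥S - k := by
  intro k
  induction k with
  | zero => rw [pow_zero, Module.End.one_eq_id, Submodule.map_id, Nat.sub_zero]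
  | succ k ih =>
    set T := S.map (f ^ k) with hT
    have e : S.map (f ^ (k + 1)) = T.map f := by
      rw [hT, pow_succ', Module.End.mul_eq_comp, Submodule.map_comp]
    have hTT : T.map f ≤ T := by
      rw [← e, pow_succ, Module.End.mul_eq_comp, Submodule.map_comp]
      exact Submodule.map_mono hS
    rcases eq_or_ne T ⊥ with h0 | h0
    · rw [e, h0, Submodule.map_bot, finrank_bot]; exact Nat.zero_le _
    have hlt : T.map f < T := by
      refine lt_of_le_of_ne hTT fun h => h0 ?_
      have hall : ∀ j, T.map (f ^ j) = T := by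
        intro j
        induction j with
        | zero => simp [Module.End.one_eq_id]
        | succ j ihj => rw [pow_succ', Module.End.mul_eq_comp, Submodule.map_comp, ihj, h]
      have hle : T.map (f ^ m) ≤ ⊥ := by
        rw [hT, ← Submodule.map_comp, ← Module.End.mul_eq_comp, ← pow_add, add_comm, pow_add,
          Module.End.mul_eq_comp, Submodule.map_comp, hm, Submodule.map_bot]
      rw [hall m] at hle
      exact le_bot_iff.1 hle
    rw [e]
    have := Submodule.finrank_lt_finrank_of_lt hlt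
    omega

theorem mulVecLin_pow (A : Matrix ι ι K) : ∀ k : ℕ, (A ^ k).mulVecLin = A.mulVecLin ^ k
  | 0 => by simp [Module.End.one_eq_id]
  | k + 1 => by rw [pow_succ, pow_succ, Matrix.mulVecLin_mul, mulVecLin_pow A k]; rfl

/-- The core step for elements of order `3 · 2^a`. -/
theorem norm_three_zero {a : ℕ} (ha : a = 2 ∨ a = 3) (g : Matrix ι ι K) (hι : Fintype.card ι = 8)
    (hcube : ∀ c : K, c ^ 3 = 1 → c = 1)
    (hg : g ^ (3 * 2 ^ a) = 1) (hy : SmallFix (g ^ (2 ^ a)))
    (hu : a = 2 → ∀ v : ι → K, (∀ w, ∃ c : K, (g ^ 3 + 1) ^ 3 *ᵥ w = c • v) → (g ^ 3 + 1) ^ 3 = 0) :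
    ∑ j ∈ Finset.range (3 * 2 ^ a), g ^ j = 0 := by
  set y := g ^ (2 ^ a) with hy'
  have hy3 : y ^ 3 = 1 := by rw [hy', ← pow_mul, mul_comm, hg]
  set P : Matrix ι ι K := 1 + y + y ^ 2 with hP
  have hyP : y * P = P := by
    rw [hP, mul_add, mul_add, mul_one, ← pow_two, show y * y ^ 2 = 1 from by rw [← pow_succ', hy3]]
    abel
  have hy2P : y ^ 2 * P = P := by rw [pow_two, mul_assoc, hyP, hyP]
  have hPP : P * P = P := by
    rw [hP] at hyP hy2P ⊢
    rw [add_mul (1 + y), add_mul (1 : Matrix ι ι K), one_mul, hyP, hy2P, add_self_matrix, zero_add]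
  have hgP : Commute g P :=
    ((Commute.one_right g).add_right (Commute.self_pow g _)).add_right
      (by rw [hy', ← pow_mul]; exact Commute.self_pow g _)
  have hcomm : Commute (g + 1) P := hgP.add_left (Commute.one_left P)
  set W : Submodule K (ι → K) := LinearMap.range P.mulVecLin with hW
  have hWdim : finrank K ↥W ≤ 4 := by
    obtain ⟨A, B, e⟩ := hy
    rw [hW, hP, e, Matrix.mulVecLin_mul]
    refine (Submodule.finrank_mono (LinearMap.range_comp_le_range _ _)).trans ?_
    exact (LinearMap.finrank_range_le _).trans (by simp)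
  have hinv : W.map (g + 1).mulVecLin ≤ W := by
    rintro _ ⟨_, ⟨v, rfl⟩, rfl⟩
    refine ⟨(g + 1) *ᵥ v, ?_⟩
    simp only [Matrix.mulVecLin_apply, Matrix.mulVec_mulVec, hcomm.eq]
  have hnil : W.map ((g + 1).mulVecLin ^ (2 ^ a)) = ⊥ := by
    rw [← mulVecLin_pow, add_one_pow_two_pow, ← hy', eq_bot_iff]
    rintro _ ⟨_, ⟨v, rfl⟩, rfl⟩
    simp only [Matrix.mulVecLin_apply, Matrix.mulVec_mulVec, add_mul, hyP, one_mul, add_self_matrix,
      Matrix.zero_mulVec, Submodule.mem_bot]
  have hdims := finrank_map_pow_le _ W hinv _ hnil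
  have key : (g + 1) ^ (2 ^ a - 1) * P = 0 := by
    refine Matrix.ext_iff_mulVec.2 fun v => ?_
    rw [Matrix.zero_mulVec, ← Matrix.mulVec_mulVec]
    have hv : P *ᵥ v ∈ W := ⟨v, rfl⟩
    rcases ha with rfl | rfl
    · by_contra hne
      set m := g ^ 3 + 1 with hm
      have hgy : g * (g ^ 3) * P = P := by
        rw [← pow_succ']; exact hyP
      have hmW : (g + 1) * P = g * m * P := by
        rw [hm, mul_add g, add_mul g 1 P, add_mul _ _ P, hgy, mul_one, one_mul, add_comm]
      have hmP : Commute m P := (hgP.pow_left 3).add_left (Commute.one_left P)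
      have hgm : Commute g m := (Commute.self_pow g 3).add_right (Commute.one_right g)
      have hpow : (g + 1) ^ 3 * P = g ^ 3 * (m ^ 3 * P) := by
        have h1 : ((g + 1) * P) ^ 3 = (g * m * P) ^ 3 := by rw [hmW]
        have hP3 : P ^ 3 = P := by rw [pow_succ, pow_two, hPP, hPP]
        rwa [hcomm.mul_pow, (hgP.mul_left hmP).mul_pow, hgm.mul_pow, hP3, mul_assoc] at h1
      have hne3 : m ^ 3 *ᵥ (P *ᵥ v) ≠ 0 := by
        intro h
        apply hne
        rw [show (2 ^ 2 - 1 : ℕ) = 3 from rfl, Matrix.mulVec_mulVec, hpow, ← Matrix.mulVec_mulVec,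
          ← Matrix.mulVec_mulVec, h, Matrix.mulVec_zero]
      have hm4 : m ^ 4 = 0 := by
        rw [hm, show (4 : ℕ) = 2 ^ 2 from rfl, add_one_pow_two_pow, ← pow_mul,
          show 3 * 2 ^ 2 = 12 from rfl]
        rw [show (3 * 2 ^ 2 : ℕ) = 12 from rfl] at hg
        rw [hg, add_self_matrix]
      have hinvm : ∀ S : Submodule K (ι → K), (∀ x ∈ S, m *ᵥ x ∈ S) →
          finrank K ↥(S.map (m ^ 3).mulVecLin) ≤ finrank K ↥S - 3 := by
        intro S hS
        rw [mulVecLin_pow]
        refine finrank_map_pow_le _ S (by rintro _ ⟨x, hx, rfl⟩; exact hS x hx) 4 ?_ 3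
        rw [← mulVecLin_pow, hm4, eq_bot_iff]
        rintro _ ⟨x, -, rfl⟩
        simp
      have hWm : ∀ x ∈ W, m *ᵥ x ∈ W := by
        rintro _ ⟨x, rfl⟩
        exact ⟨m *ᵥ x, by simp only [Matrix.mulVecLin_apply, Matrix.mulVec_mulVec, hmP.eq]⟩
      set W' : Submodule K (ι → K) := LinearMap.ker P.mulVecLin with hW'
      have hW'm : ∀ x ∈ W', m *ᵥ x ∈ W' := by
        intro x hx
        rw [hW', LinearMap.mem_ker, Matrix.mulVecLin_apply] at hx ⊢
        rw [Matrix.mulVec_mulVec, ← hmP.eq, ← Matrix.mulVec_mulVec, hx, Matrix.mulVec_zero]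
      have hsum : finrank K ↥W + finrank K ↥W' = 8 := by
        rw [hW, hW', LinearMap.finrank_range_add_finrank_ker, Module.finrank_fintype_fun_eq_card, hι]
      set z := m ^ 3 *ᵥ (P *ᵥ v)
      have hz : z ∈ W.map (m ^ 3).mulVecLin := ⟨_, hv, rfl⟩
      have h1 := hinvm W hWm
      have h2 := hinvm W' hW'm
      have h1' : finrank K ↥(W.map (m ^ 3).mulVecLin) ≠ 0 := by
        intro h
        exact hne3 ((Submodule.mem_bot K).1 (Submodule.finrank_eq_zero.1 h ▸ hz))
      have hspanW : W.map (m ^ 3).mulVecLin = K ∙ z := by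
        refine (Submodule.eq_of_le_of_finrank_le ((Submodule.span_singleton_le_iff_mem _ _).2 hz) ?_).symm
        rw [finrank_span_singleton hne3]
        omega
      have hW'0 : ∀ x ∈ W', m ^ 3 *ᵥ x = 0 := by
        intro x hx
        by_contra hx0
        set z' := m ^ 3 *ᵥ x
        have hz' : z' ∈ W'.map (m ^ 3).mulVecLin := ⟨x, hx, rfl⟩
        have hle : finrank K ↥(W'.map (m ^ 3).mulVecLin) ≤ 1 := by omega
        have hspan : W'.map (m ^ 3).mulVecLin = K ∙ z' := by
          refine (Submodule.eq_of_le_of_finrank_le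
            ((Submodule.span_singleton_le_iff_mem _ _).2 hz') ?_).symm
          rwa [finrank_span_singleton hx0]
        have hym : Commute y (m ^ 3) := ((Commute.pow_pow_self g _ 3).add_right (Commute.one_right _)).pow_right 3
        have hyW' : y *ᵥ x ∈ W' := by
          rw [hW', LinearMap.mem_ker, Matrix.mulVecLin_apply] at hx ⊢
          have hc : Commute P y := (((Commute.one_left y).add_left (Commute.refl y)).add_left
            (Commute.pow_self y 2))
          rw [Matrix.mulVec_mulVec, hc.eq, ← Matrix.mulVec_mulVec, hx, Matrix.mulVec_zero]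
        have : y *ᵥ z' ∈ K ∙ z' := by
          rw [← hspan]
          exact ⟨y *ᵥ x, hyW', by simp only [z', Matrix.mulVecLin_apply, Matrix.mulVec_mulVec, hym.eq]⟩
        obtain ⟨c, hc⟩ := Submodule.mem_span_singleton.1 this
        have hc3 : c ^ 3 = 1 := by
          have e : y ^ 3 *ᵥ z' = c ^ 3 • z' := by
            rw [pow_succ, pow_two, ← Matrix.mulVec_mulVec, ← Matrix.mulVec_mulVec, ← hc,
              Matrix.mulVec_smul, ← hc, Matrix.mulVec_smul, Matrix.mulVec_smul, ← hc, smul_smul,
              smul_smul]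
            congr 1; ring
          rw [hy3, Matrix.one_mulVec] at e
          exact (smul_left_injective K hx0 (by simpa using e)).symm
        have hPz : P *ᵥ z' = (1 + c + c ^ 2) • z' := by
          rw [hP, Matrix.add_mulVec, Matrix.add_mulVec, Matrix.one_mulVec, pow_two,
            ← Matrix.mulVec_mulVec, ← hc, Matrix.mulVec_smul, ← hc, add_smul, add_smul, one_smul,
            smul_smul, pow_two]
        have hPz0 : P *ᵥ z' = 0 := by
          rw [hW', LinearMap.mem_ker, Matrix.mulVecLin_apply] at hx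
          simp only [z', Matrix.mulVec_mulVec, ← (hmP.pow_left 3).eq]
          rw [← Matrix.mulVec_mulVec, hx, Matrix.mulVec_zero]
        rw [hPz0] at hPz
        have hsum0 : 1 + c + c ^ 2 = 0 := (smul_eq_zero.1 hPz.symm).resolve_right hx0
        rw [hcube c hc3, one_pow, CharTwo.add_self_eq_zero, zero_add] at hsum0
        exact one_ne_zero hsum0
      have hzero := hu rfl z fun w => by
        have hdec : w = P *ᵥ w + (w - P *ᵥ w) := by abel
        have hk : w - P *ᵥ w ∈ W' := by
          rw [hW', LinearMap.mem_ker, Matrix.mulVecLin_apply, Matrix.mulVec_sub, Matrix.mulVec_mulVec,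
            hPP, sub_self]
        have : m ^ 3 *ᵥ (P *ᵥ w) ∈ K ∙ z := hspanW ▸ ⟨_, ⟨w, rfl⟩, rfl⟩
        obtain ⟨c, hc⟩ := Submodule.mem_span_singleton.1 this
        exact ⟨c, by rw [hdec, Matrix.mulVec_add, hW'0 _ hk, add_zero, hc]⟩
      exact hne3 (by simp only [z]; rw [hzero, Matrix.zero_mulVec])
    · have h4 : finrank K ↥(W.map ((g + 1).mulVecLin ^ 7)) = 0 := by
        have := hdims 7
        omega
      rw [Submodule.finrank_eq_zero] at h4
      have : (g + 1).mulVecLin ^ 7 = ((g + 1) ^ 7).mulVecLin := (mulVecLin_pow _ 7).symm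
      rw [this] at h4
      exact (Submodule.mem_bot K).1 (h4 ▸ ⟨_, hv, rfl⟩)
  rw [mul_comm 3, sum_range_mul, geom_pow_two, ← hy']
  rw [show ∑ i ∈ Finset.range 3, y ^ i = P by simp [Finset.sum_range_succ, hP]]
  exact key

/-- The powers of an element in a row with only a diagonal entry. -/
theorem pow_diag_row (h : Matrix ι ι K) {i : ι} (hi : ∀ j, j ≠ i → h i j = 0) :
    ∀ (k : ℕ) (w : ι → K), ((h ^ k) *ᵥ w) i = h i i ^ k * w i
  | 0, w => by simp
  | k + 1, w => by
    rw [pow_succ', ← Matrix.mulVec_mulVec, Matrix.mulVec, dotProduct,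
      Finset.sum_eq_single i (fun j _ hj => by rw [hi j hj, zero_mul]) (by simp),
      pow_diag_row h hi k w, pow_succ', mul_assoc]

/-- An element centralizing a doubly-one element and fixing a vector. -/
theorem pow_fourteen {g x : Matrix ι ι K} (h7 : ∀ c : K, c ≠ 0 → c ^ 7 = 1) (hx : DoubleOne x)
    (hgx : Commute g x) (hu : IsUnit g) {w : ι → K} (hw : w ≠ 0) (hgw : g *ᵥ w = w)
    (hxw : x *ᵥ w = w) : g ^ 14 = 1 := by
  obtain ⟨P, Q, d, p, q, hPQ, hQP, hpq, hdp, hdq, hd, hD⟩ := hx
  set h := Q * g * P with hh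
  set W := Q *ᵥ w with hW
  have hcomm : h * Matrix.diagonal d = Matrix.diagonal d * h := by
    rw [← hD, hh]
    calc Q * g * P * (Q * x * P) = Q * g * (P * Q) * x * P := by simp only [mul_assoc]
      _ = Q * (g * x) * P := by rw [hPQ, mul_one]; simp only [mul_assoc]
      _ = Q * (x * g) * P := by rw [hgx.eq]
      _ = Q * x * (P * Q) * g * P := by rw [hPQ, mul_one]; simp only [mul_assoc]
      _ = _ := by simp only [mul_assoc]
  have hblock : ∀ i j, h i j ≠ 0 → d i = d j := by
    intro i j hne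
    have := congrFun (congrFun hcomm i) j
    rw [Matrix.mul_diagonal, Matrix.diagonal_mul, mul_comm (d i)] at this
    exact (mul_left_cancel₀ hne this).symm
  have hhw : h *ᵥ W = W := by
    rw [hh, hW, Matrix.mulVec_mulVec, mul_assoc, hPQ, mul_one, ← Matrix.mulVec_mulVec, hgw]
  have hDw : Matrix.diagonal d *ᵥ W = W := by
    rw [← hD, hW, Matrix.mulVec_mulVec, mul_assoc, hPQ, mul_one, ← Matrix.mulVec_mulVec, hxw]
  have hW0 : W ≠ 0 := fun e => hw (by
    rw [← Matrix.one_mulVec w, ← hPQ, ← Matrix.mulVec_mulVec, ← hW, e, Matrix.mulVec_zero])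
  have hsupp : ∀ i, i ≠ p → i ≠ q → W i = 0 := by
    intro i h1 h2
    have e := congrFun hDw i
    rw [Matrix.mulVec_diagonal] at e
    by_contra hne
    have hdi : d i = d p := by
      rw [hdp]; exact mul_right_cancel₀ hne (e.trans (one_mul _).symm)
    rcases hd i p hdi with h' | ⟨h' | h', -⟩
    · exact h1 h'
    · exact h1 h'
    · exact h2 h'
  have hoff : ∀ i, i ≠ p → i ≠ q → ∀ j, j ≠ i → h i j = 0 := by
    intro i h1 h2 j hj
    by_contra hne
    rcases hd i j (hblock i j hne) with e | ⟨e | e, -⟩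
    · exact hj e.symm
    · exact h1 e
    · exact h2 e
  have hrow : ∀ i, i = p ∨ i = q → ∀ j, j ≠ p → j ≠ q → h i j = 0 := by
    intro i hi j h1 h2
    by_contra hne
    rcases hd i j (hblock i j hne) with e | ⟨-, e | e⟩
    · subst e; rcases hi with e | e
      · exact h1 e
      · exact h2 e
    · exact h1 e
    · exact h2 e
  have hact : ∀ i, i = p ∨ i = q → ∀ z : ι → K, (h *ᵥ z) i = h i p * z p + h i q * z q := by
    intro i hi z
    rw [Matrix.mulVec, dotProduct, Finset.sum_eq_add p q hpq (fun j _ hj => by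
      rw [hrow i hi j hj.1 hj.2, zero_mul]) (by simp) (by simp)]
  have hinj : Function.Injective h.mulVec := by
    rw [Matrix.mulVec_injective_iff_isUnit, hh]
    have hP : IsUnit P := ⟨⟨P, Q, hPQ, hQP⟩, rfl⟩
    have hQ : IsUnit Q := ⟨⟨Q, P, hQP, hPQ⟩, rfl⟩
    exact (hQ.mul hu).mul hP
  have hout : ∀ i, i ≠ p → i ≠ q → ∀ z, ((h ^ 7) *ᵥ z) i = z i := by
    intro i h1 h2 z
    have hne : h i i ≠ 0 := by
      intro e
      have hz : h *ᵥ (Pi.single i 1) = 0 := by
        funext j
        rw [Matrix.mulVec_single_one, Matrix.col_apply, Pi.zero_apply]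
        by_cases hji : j = i
        · rw [hji]; exact e
        · by_contra hne
          rcases hd j i (hblock j i hne) with e' | ⟨-, e' | e'⟩
          · exact hji e'
          · exact h1 e'
          · exact h2 e'
      have := hinj (hz.trans (Matrix.mulVec_zero h).symm)
      simpa using congrFun this i
    rw [pow_diag_row h (hoff i h1 h2) 7 z, h7 _ hne, one_mul]
  -- the functional killing the fixed vector
  let ψ : (ι → K) → K := fun z => W q * z p + W p * z q
  set lam := h p p + h q q + 1 with hlam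
  have hp1 : h p p * W p + h p q * W q = W p := by
    rw [← hact p (Or.inl rfl) W, hhw]
  have hq1 : h q p * W p + h q q * W q = W q := by
    rw [← hact q (Or.inr rfl) W, hhw]
  have hψ : ∀ z, ψ (h *ᵥ z) = lam * ψ z := by
    intro z
    simp only [ψ, hlam, hact p (Or.inl rfl) z, hact q (Or.inr rfl) z]
    linear_combination (z q) * hp1 + (z p) * hq1 -
      (h p p * W p * z q + W q * h q q * z p) * (CharTwo.two_eq_zero (R := K))
  have hnz : W p ≠ 0 ∨ W q ≠ 0 := by
    by_contra hc
    simp only [not_or, not_not] at hc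
    refine hW0 (funext fun i => ?_)
    by_cases h1 : i = p
    · rw [h1]; exact hc.1
    · by_cases h2 : i = q
      · rw [h2]; exact hc.2
      · exact hsupp i h1 h2
  have hlam0 : lam ≠ 0 := by
    intro e
    obtain ⟨z, hz⟩ : ∃ z, ψ z ≠ 0 := by
      rcases hnz with hn | hn
      · exact ⟨Pi.single q 1, by simp [ψ, hpq, hn]⟩
      · exact ⟨Pi.single p 1, by simp [ψ, hpq.symm, hn]⟩
    obtain ⟨z', hz'⟩ := (Matrix.mulVec_surjective_iff_isUnit.2 (Matrix.mulVec_injective_iff_isUnit.1 hinj)) z
    rw [← hz', hψ, e, zero_mul] at hz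
    exact hz rfl
  have hψk : ∀ (k : ℕ) (z : ι → K), ψ ((h ^ k) *ᵥ z) = lam ^ k * ψ z := by
    intro k
    induction k with
    | zero => simp
    | succ k ih => intro z; rw [pow_succ', ← Matrix.mulVec_mulVec, hψ, ih, pow_succ', mul_assoc]
  have hWk : ∀ k : ℕ, (h ^ k) *ᵥ W = W := by
    intro k
    induction k with
    | zero => simp
    | succ k ih => rw [pow_succ, ← Matrix.mulVec_mulVec, hhw, ih]
  have h7z : ∀ z, ∃ c : K, (h ^ 7) *ᵥ z = z + c • W := by
    intro z
    set m := (h ^ 7) *ᵥ z + z with hm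
    have hm0 : ∀ i, i ≠ p → i ≠ q → m i = 0 := fun i h1 h2 => by
      rw [hm, Pi.add_apply, hout i h1 h2 z, CharTwo.add_self_eq_zero]
    have hψm : W q * m p + W p * m q = 0 := by
      have e := hψk 7 z
      rw [h7 _ hlam0, one_mul] at e
      simp only [ψ] at e
      rw [hm, Pi.add_apply, Pi.add_apply]
      linear_combination e + (W q * z p + W p * z q) * (CharTwo.two_eq_zero (R := K))
    obtain ⟨c, hc⟩ : ∃ c : K, m = c • W := by
      rcases hnz with hn | hn
      · refine ⟨m p / W p, funext fun i => ?_⟩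
        rw [Pi.smul_apply, smul_eq_mul]
        by_cases h1 : i = p
        · rw [h1]; field_simp
        · by_cases h2 : i = q
          · rw [h2]; field_simp
            linear_combination hψm - W q * m p * (CharTwo.two_eq_zero (R := K))
          · rw [hm0 i h1 h2, hsupp i h1 h2, mul_zero]
      · refine ⟨m q / W q, funext fun i => ?_⟩
        rw [Pi.smul_apply, smul_eq_mul]
        by_cases h2 : i = q
        · rw [h2]; field_simp
        · by_cases h1 : i = p
          · rw [h1]; field_simp
            linear_combination hψm - W p * m q * (CharTwo.two_eq_zero (R := K))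
          · rw [hm0 i h1 h2, hsupp i h1 h2, mul_zero]
    refine ⟨c, ?_⟩
    rw [← hc, hm, add_comm z, add_assoc, show z + z = 0 from funext fun i =>
      CharTwo.add_self_eq_zero (z i), add_zero]
  have h14 : h ^ 14 = 1 := by
    refine Matrix.ext_iff_mulVec.2 fun z => ?_
    obtain ⟨c, hc⟩ := h7z z
    rw [show 14 = 7 + 7 from rfl, pow_add, ← Matrix.mulVec_mulVec, hc, Matrix.mulVec_add, hc,
      Matrix.mulVec_smul, hWk 7, Matrix.one_mulVec, add_assoc,
      show c • W + c • W = 0 from funext fun i => CharTwo.add_self_eq_zero _, add_zero]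
  have hconj : ∀ k : ℕ, h ^ k = Q * g ^ k * P := by
    intro k
    induction k with
    | zero => rw [pow_zero, pow_zero, mul_one, hQP]
    | succ k ih =>
      rw [pow_succ, ih, hh]
      calc Q * g ^ k * P * (Q * g * P) = Q * g ^ k * (P * Q) * g * P := by simp only [mul_assoc]
        _ = _ := by rw [hPQ, mul_one, pow_succ]; simp only [mul_assoc]
  calc g ^ 14 = P * (Q * g ^ 14 * P) * Q := by
        rw [show P * (Q * g ^ 14 * P) * Q = (P * Q) * g ^ 14 * (P * Q) by simp only [mul_assoc], hPQ,
          one_mul, mul_one]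
    _ = 1 := by rw [← hconj, h14, mul_one, hPQ]

end CfsgLib.D4Spec
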