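import Cfsg.Agent.Lib.D4Spectrum.Rep
import Cfsg.Agent.Lib.D4Spectrum.ChecksUnip
import Cfsg.Agent.S1067
import Cfsg.Agent.S1071

/-!
The norms `1 + g + … + g^(n-1)` of `³D₄(2)` on the natural module.
-/

set_option autoImplicit false
set_option maxRecDepth 100000
set_option maxHeartbeats 1000000
set_option linter.unusedSectionVars false

namespace CfsgLib.D4Spec

open Matrix Cfsg.Lie CfsgLib.Chev CfsgLib.Chev.D4Root

variable {K : Type*} [Field K] [Fintype K]

theorem exists_root_cubic (hK : Fintype.card K = 8) [CharP K 2] : ∃ om : K, om ^ 3 = om + 1 := by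
  classical
  obtain ⟨a, ha⟩ : ∃ a : K, a ∉ ({0, 1} : Finset K) := by
    by_contra h
    simp only [not_exists, not_not] at h
    have := Finset.card_le_card (fun a (_ : a ∈ Finset.univ) => h a)
    rw [Finset.card_univ, hK] at this
    exact absurd (this.trans Finset.card_le_two) (by norm_num)
  simp only [Finset.mem_insert, Finset.mem_singleton, not_or] at ha
  have h7 : a ^ 7 = 1 := by
    have := FiniteField.pow_card_sub_one_eq_one a ha.1
    rwa [hK] at this
  have h0 : (a - 1) * ((a ^ 3 + a + 1) * (a ^ 3 + a ^ 2 + 1)) = 0 := by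
    linear_combination h7 + (a ^ 4 - a ^ 3) * (CharTwo.two_eq_zero (R := K))
  rcases mul_eq_zero.1 h0 with h | h
  · exact absurd (sub_eq_zero.1 h) ha.2
  rcases mul_eq_zero.1 h with h | h
  · exact ⟨a, by linear_combination h - (a + 1) * (CharTwo.two_eq_zero (R := K))⟩
  · refine ⟨a⁻¹, ?_⟩
    field_simp [ha.1]
    linear_combination (CharTwo.two_eq_zero (R := K)) - h

variable [CharP K 2] (om : K) (hom : om ^ 3 = om + 1)
include hom

omit hom in
theorem fixFree_conj {A B X : Matrix Ix Ix K} (hBA : B * A = 1)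
    (h : FixFree (A * X * B)) : FixFree X := by
  intro w hw
  have e := h (A *ᵥ w) (by
    rw [Matrix.mulVec_mulVec, mul_assoc, hBA, mul_one, ← Matrix.mulVec_mulVec, hw])
  rw [← Matrix.one_mulVec w, ← hBA, ← Matrix.mulVec_mulVec, e, Matrix.mulVec_zero]

omit hom in
theorem smallFix_conj {A B X : Matrix Ix Ix K} (hBA : B * A = 1) (hAB : A * B = 1)
    (h : SmallFix (A * X * B)) : SmallFix X := by
  obtain ⟨L, R, e⟩ := h
  refine ⟨B * L, R * A, ?_⟩
  calc 1 + X + X ^ 2 = B * (1 + A * X * B + (A * X * B) ^ 2) * A := by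
        rw [mul_add, mul_add, add_mul, add_mul, mul_one, hBA, pow_two, pow_two]
        congr 1
        · congr 1
          rw [show B * (A * X * B) * A = (B * A) * X * (B * A) by simp only [mul_assoc], hBA, one_mul,
            mul_one]
        · rw [show B * (A * X * B * (A * X * B)) * A = (B * A) * X * (B * A) * X * (B * A) by
            simp only [mul_assoc], hBA, one_mul, mul_one, mul_one]
    _ = _ := by rw [e]; simp only [Matrix.mul_assoc]

omit hom in
theorem doubleOne_conj {A B X : Matrix Ix Ix K} (hBA : B * A = 1) (hAB : A * B = 1)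
    (h : DoubleOne (A * X * B)) : DoubleOne X := by
  obtain ⟨P, Q, d, p, q, hPQ, hQP, hpq, hp, hq, hd, e⟩ := h
  refine ⟨B * P, Q * A, d, p, q, ?_, ?_, hpq, hp, hq, hd, ?_⟩
  · rw [show B * P * (Q * A) = B * (P * Q) * A by simp only [mul_assoc], hPQ, mul_one, hBA]
  · rw [show Q * A * (B * P) = Q * (A * B) * P by simp only [mul_assoc], hAB, mul_one, hQP]
  · rw [← e]; simp only [mul_assoc]

theorem fixFree_cert {x C : List ℕ} (h : certFree x C = true) : FixFree (mat om x) := by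
  simp only [certFree, Bool.and_eq_true, beq_iff_eq] at h
  intro w hw
  have e := congrArg (mat om) h.2
  rw [mat_mmul om hom, mat_madd om (by rw [h.1]; rfl), mat_one8] at e
  calc w = (mat om C * (mat om x + 1)) *ᵥ w := by rw [e, Matrix.one_mulVec]
    _ = 0 := by
      rw [← Matrix.mulVec_mulVec, Matrix.add_mulVec, hw, Matrix.one_mulVec,
        show w + w = 0 from funext fun i => CharTwo.add_self_eq_zero _, Matrix.mulVec_zero]

theorem smallFix_cert {x A B : List ℕ} (h : certSmall x A B = true) :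
    mat om x ^ 3 = 1 ∧ SmallFix (mat om x) := by
  simp only [certSmall, Bool.and_eq_true, beq_iff_eq] at h
  obtain ⟨⟨⟨hx, hB⟩, h3⟩, hAB⟩ := h
  refine ⟨?_, ?_⟩
  · have e := congrArg (mat om) h3
    rw [mat_mmul om hom, mat_mmul om hom, mat_one8] at e
    rw [pow_succ, pow_two, e]
  refine ⟨Matrix.of fun i k => el8 om (dig (A.getD (pos i) 0) (k : ℕ)),
    Matrix.of fun k j => el8 om (dig (B.getD (k : ℕ) 0) (pos j)), ?_⟩
  have e := congrArg (mat om) hAB
  have hl : (madd one8 x).length = (mmul x x).length := by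
    rw [mmul, List.length_map, hx]
    obtain _ | ⟨a, _ | ⟨b, _ | ⟨c, _ | ⟨d, _ | ⟨f, _ | ⟨g, _ | ⟨i, _ | ⟨j, _ | ⟨k, l⟩⟩⟩⟩⟩⟩⟩⟩⟩ := x <;>
      simp_all [madd, one8]
  rw [mat_mmul om hom, mat_madd om hl, mat_madd om (by rw [hx]; rfl), mat_mmul om hom, mat_one8] at e
  rw [pow_two, ← e]
  ext i j
  simp only [Matrix.mul_apply, Matrix.of_apply, Fin.sum_univ_four, mat, Fintype.sum_sum_type]
  simp only [pos, List.getD_eq_default B 0 (n := 4 + ((0 : Fin 4) : ℕ)) (by omega),
    List.getD_eq_default B 0 (n := 4 + ((1 : Fin 4) : ℕ)) (by omega),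
    List.getD_eq_default B 0 (n := 4 + ((2 : Fin 4) : ℕ)) (by omega),
    List.getD_eq_default B 0 (n := 4 + ((3 : Fin 4) : ℕ)) (by omega), dig_zero, el8_zero, mul_zero,
    add_zero]

theorem doubleOne_cert {x P Qd : List ℕ} (h : certDiag x P Qd = true) :
    DoubleOne (mat om x) := by
  simp only [certDiag, Bool.and_eq_true, beq_iff_eq, List.all_eq_true, List.mem_range,
    decide_eq_true_eq, Bool.or_eq_true, Bool.not_eq_true'] at h
  obtain ⟨⟨⟨⟨⟨⟨hPQ, hQP⟩, hD⟩, hlen⟩, hlt⟩, h1⟩, hdist⟩ := h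
  set d := Qd.drop 8
  set Q := Qd.take 8
  obtain ⟨a, b, hab⟩ := List.length_eq_two.1 h1
  have hmem : ∀ i, i ∈ [a, b] ↔ i < 8 ∧ d.getD i 0 = 1 := by
    intro i; rw [← hab]; simp [List.mem_filter]
  have hne : a ≠ b := by
    have := List.Nodup.filter (fun i => d.getD i 0 == 1) (List.nodup_range (n := 8))
    rw [hab] at this
    simpa using this
  have hex : ∀ i < 8, ∃ x : Ix, pos x = i := by decide
  have hinj : ∀ x y : Ix, pos x = pos y → x = y := by decide
  obtain ⟨p, hp⟩ := hex a ((hmem a).1 (by simp)).1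
  obtain ⟨q, hq⟩ := hex b ((hmem b).1 (by simp)).1
  refine ⟨mat om P, mat om Q, fun i => el8 om (d.getD (pos i) 0), p, q, ?_, ?_, ?_, ?_, ?_, ?_, ?_⟩
  · rw [← mat_mmul om hom, hPQ, mat_one8]
  · rw [← mat_mmul om hom, hQP, mat_one8]
  · exact fun e => hne (by rw [← hp, ← hq, e])
  · simp only [hp, ((hmem a).1 (by simp)).2, el8_one]
  · simp only [hq, ((hmem b).1 (by simp)).2, el8_one]
  · intro i j e
    have e' := el8_inj om hom (hlt _ (pos_lt i)) (hlt _ (pos_lt j)) e
    rcases hdist (pos i) (pos_lt i) (pos j) (pos_lt j) with (h' | h') | h'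
    · exact Or.inl (hinj _ _ h')
    · exact absurd e' (by simpa using h')
    · refine Or.inr ⟨?_, ?_⟩
      · have := (hmem (pos i)).2 ⟨pos_lt i, h'⟩
        simp only [List.mem_cons, List.not_mem_nil, or_false] at this
        exact this.imp (fun e => hinj _ _ (e.trans hp.symm)) fun e => hinj _ _ (e.trans hq.symm)
      · have := (hmem (pos j)).2 ⟨pos_lt j, e'.symm.trans h'⟩
        simp only [List.mem_cons, List.not_mem_nil, or_false] at this
        exact this.imp (fun e => hinj _ _ (e.trans hp.symm)) fun e => hinj _ _ (e.trans hq.symm)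
  · rw [← mat_mmul om hom, ← mat_mmul om hom, hD]
    ext i j
    simp only [mat, Matrix.of_apply, Matrix.diagonal_apply, diagC]
    rw [List.getD_eq_getElem _ _ (by simp [pos_lt i]), List.getElem_map, List.getElem_range]
    have hdg : ∀ v < 8, ∀ i < 8, ∀ j < 8, dig (v <<< (3 * i)) j = if i = j then v else 0 := by decide
    rw [hdg _ (hlt _ (pos_lt i)) _ (pos_lt i) _ (pos_lt j)]
    by_cases hij : i = j
    · rw [if_pos hij, if_pos (by rw [hij])]
    · rw [if_neg hij, if_neg (fun e => hij (hinj _ _ e)), el8_zero]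

/-- What a leaf of the check says. -/
theorem leaf_spec {u : List ℕ} (hu : u.length = 8) (h : leafOK u = true) :
    (mat om u + 1) ^ 7 = 0 ∧ ((mat om u + 1) ^ 4 = 0 → ∀ v : Ix → K,
      (∀ w, ∃ c : K, (mat om u + 1) ^ 3 *ᵥ w = c • v) → (mat om u + 1) ^ 3 = 0) := by
  simp only [leafOK, Bool.and_eq_true, beq_iff_eq, Bool.or_eq_true, Bool.not_eq_true'] at h
  obtain ⟨h7, hcase⟩ := h
  set n := madd u one8 with hn
  have hN : mat om n = mat om u + 1 := by rw [hn, mat_madd om (by rw [hu]; rfl), mat_one8]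
  have hz : mat om zero8 = 0 := by
    have : ∀ i : Ix, zero8.getD (pos i) 0 = 0 := by decide
    ext i j; simp only [mat, Matrix.of_apply, this, dig_zero, el8_zero, Matrix.zero_apply]
  have e3 : mat om (mmul (mmul n n) n) = (mat om u + 1) ^ 3 := by
    rw [mat_mmul om hom, mat_mmul om hom, hN, pow_succ, pow_two]
  have e4 : mat om (mmul (mmul n n) (mmul n n)) = (mat om u + 1) ^ 4 := by
    simp only [mat_mmul om hom, hN, pow_succ, pow_zero, one_mul, mul_assoc]
  refine ⟨?_, ?_⟩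
  · have := congrArg (mat om) h7
    rw [mat_mmul om hom, e4, e3, hz, ← pow_add] at this
    exact this
  intro hn4 v hv
  rcases hcase with (⟨hc, hw⟩ | hc) | hc
  · exfalso
    have hmz := mat_inj om hom hw (B := zero8) (by decide) (e4.trans (hn4.trans hz.symm))
    simp [hmz] at hc
  · rw [← e3, hc, hz]
  · exfalso
    simp only [minor2] at hc
    set A := mmul (mmul n n) n
    split at hc
    · simp at hc
    rename_i i hi
    split at hc
    · simp at hc
    rename_i j hj
    have hi8 : i < 8 := List.mem_range.1 (List.mem_of_find?_eq_some hi)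
    have hj8 : j < 8 := List.mem_range.1 (List.mem_of_find?_eq_some hj)
    simp only [List.any_eq_true, List.mem_range, Bool.not_eq_true', beq_eq_false_iff_ne] at hc
    obtain ⟨k, hk, l, hl, hne⟩ := hc
    refine el8_ne_zero om hom (Nat.xor_lt_two_pow (n := 3) (dig_lt _ _) (dig_lt _ _)) hne ?_
    rw [el8_xor, el8_scal om hom (v := ent A k l) (dig_lt _ _),
      el8_scal om hom (v := ent A k j) (dig_lt _ _)]
    have hex : ∀ i < 8, ∃ x : Ix, pos x = i := by decide
    obtain ⟨I, rfl⟩ := hex i hi8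
    obtain ⟨J, rfl⟩ := hex j hj8
    obtain ⟨Kk, rfl⟩ := hex k hk
    obtain ⟨L, rfl⟩ := hex l hl
    obtain ⟨a, ha⟩ := hv (Pi.single J 1)
    obtain ⟨b, hb⟩ := hv (Pi.single L 1)
    rw [← e3, Matrix.mulVec_single_one] at ha hb
    have hA : ∀ x y, el8 om (ent A (pos x) (pos y)) = mat om A x y := fun x y => rfl
    rw [hA, hA, hA, hA, show mat om A I J = a * v I from congrFun ha I,
      show mat om A Kk L = b * v Kk from congrFun hb Kk, show mat om A I L = b * v I from congrFun hb I,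
      show mat om A Kk J = a * v Kk from congrFun ha Kk]
    linear_combination (a * b * v I * v Kk) * (CharTwo.two_eq_zero (R := K))

omit hom in
/-- A conjugate has the same properties. -/
theorem conj_mat {G : Type*} [Group G] (r : G →* Matrix Ix Ix K) (c g : G) :
    r (c * g * c⁻¹) = r c * r g * r c⁻¹ := by rw [map_mul, map_mul]

omit hom in
theorem inv_mat {G : Type*} [Group G] (r : G →* Matrix Ix Ix K) (c : G) :
    r c⁻¹ * r c = 1 ∧ r c * r c⁻¹ = 1 := by
  rw [← map_mul, ← map_mul, inv_mul_cancel, mul_inv_cancel, map_one]; exact ⟨rfl, rfl⟩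

/-- The representation, with all the facts needed. -/
theorem norm_spec {G : Type*} [Group G] [Finite G] (r : G →* Matrix Ix Ix K)
    (hr : Function.Injective r) (hG : Nat.card G = 2 ^ 12 * 3 ^ 4 * 7 ^ 2 * 13)
    (hK : Fintype.card K = 8)
    (h2 : ∀ g : G, (∃ k : ℕ, orderOf g = 2 ^ k) → (r g + 1) ^ 7 = 0 ∧ ((r g + 1) ^ 4 = 0 →
      ∀ v : Ix → K, (∀ w, ∃ c : K, (r g + 1) ^ 3 *ᵥ w = c • v) → (r g + 1) ^ 3 = 0))
    (h13 : ∀ g : G, g ≠ 1 → (∃ k : ℕ, orderOf g = 13 ^ k) → FixFree (r g))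
    (h7 : ∀ g : G, g ≠ 1 → (∃ k : ℕ, orderOf g = 7 ^ k) →
      FixFree (r g) ∨ DoubleOne (r g))
    (h3 : ∀ g : G, g ≠ 1 → (∃ k : ℕ, orderOf g = 3 ^ k) →
      FixFree (r g) ∨ (r g ^ 3 = 1 ∧ SmallFix (r g)))
    (g : G) : (∑ j ∈ Finset.range (orderOf g), r g ^ j) = 0 ∨
      orderOf g ∈ ({1, 2, 3, 4, 6, 7, 14} : Finset ℕ) := by
  classical
  by_cases hN : (∑ j ∈ Finset.range (orderOf g), r g ^ j) = 0
  · exact Or.inl hN
  right
  set o := orderOf g with ho
  have hopos : 0 < o := orderOf_pos g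
  obtain ⟨w, hw, hgw⟩ : ∃ w : Ix → K, w ≠ 0 ∧ r g *ᵥ w = w := by
    obtain ⟨v, hv⟩ : ∃ v, (∑ j ∈ Finset.range o, r g ^ j) *ᵥ v ≠ 0 := by
      by_contra h
      simp only [not_exists, not_not] at h
      exact hN (Matrix.ext_iff_mulVec.2 fun v => by rw [h, Matrix.zero_mulVec])
    refine ⟨_, hv, ?_⟩
    rw [Matrix.mulVec_mulVec]
    congr 1
    have h1 : (∑ j ∈ Finset.range o, r g ^ j) * (r g - 1) = 0 := by
      rw [geom_sum_mul, ← map_pow, pow_orderOf_eq_one, map_one, sub_self]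
    have hc : Commute (r g) (∑ j ∈ Finset.range o, r g ^ j) :=
      Commute.sum_right _ _ _ fun j _ => Commute.self_pow _ j
    rw [hc.eq]
    rw [mul_sub, mul_one, sub_eq_zero] at h1
    exact h1
  have hfix : ∀ m : ℕ, r (g ^ m) *ᵥ w = w := by
    intro m
    induction m with
    | zero => rw [pow_zero, map_one, Matrix.one_mulVec]
    | succ m ih => rw [pow_succ, map_mul, ← Matrix.mulVec_mulVec, hgw, ih]
  have hnf : ∀ m : ℕ, ¬ FixFree (r (g ^ m)) := fun m h => hw (h w (hfix m))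
  have hdvd : o ∣ 2 ^ 12 * 3 ^ 4 * 7 ^ 2 * 13 := hG ▸ orderOf_dvd_natCard g
  -- a power of prime power order
  have hpow : ∀ d, d ∣ o → orderOf (g ^ (o / d)) = d := fun d hd => by
    rw [orderOf_pow_of_dvd (Nat.div_pos (Nat.le_of_dvd hopos hd) (Nat.pos_of_dvd_of_pos hd hopos)).ne'
      (Nat.div_dvd_of_dvd hd), ← ho, Nat.div_div_self hd hopos.ne']
  have n13 : ¬ 13 ∣ o := fun h => by
    refine hnf (o / 13) (h13 _ (fun e => ?_) ⟨1, by rw [pow_one, hpow 13 h]⟩)
    have := hpow 13 h; rw [e, orderOf_one] at this; omega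
  have n9 : ¬ 9 ∣ o := fun h => by
    rcases h3 (g ^ (o / 9)) (fun e => by have := hpow 9 h; rw [e, orderOf_one] at this; omega)
      ⟨2, hpow 9 h⟩ with h' | ⟨h', -⟩
    · exact hnf _ h'
    · rw [← map_pow, ← r.map_one] at h'
      have := Nat.le_of_dvd (by norm_num) (orderOf_dvd_of_pow_eq_one (hr h'))
      rw [hpow 9 h] at this; omega
  have hcube : ∀ c : K, c ^ 3 = 1 → c = 1 := by
    intro c hc
    have h0 : c ≠ 0 := fun e => by rw [e] at hc; simp at hc
    have h7' := FiniteField.pow_card_sub_one_eq_one c h0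
    rw [hK] at h7'
    calc c = c * (c ^ 3) ^ 2 := by rw [hc]; simp
      _ = c ^ 7 := by ring
      _ = 1 := h7'
  have hunit7 : ∀ c : K, c ≠ 0 → c ^ 7 = 1 := fun c h0 => by
    have := FiniteField.pow_card_sub_one_eq_one c h0
    rwa [hK] at this
  by_cases h7o : 7 ∣ o
  · -- the element centralizes a doubly-one element
    have hx := h7 (g ^ (o / 7)) (fun e => by have := hpow 7 h7o; rw [e, orderOf_one] at this; omega)
      ⟨1, by rw [pow_one, hpow 7 h7o]⟩
    have hD := hx.resolve_left (hnf _)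
    have hgx : Commute (r g) (r (g ^ (o / 7))) := by rw [map_pow]; exact Commute.self_pow _ _
    have h14 := pow_fourteen hunit7 hD hgx
      ⟨⟨r g, r g⁻¹, (inv_mat r g).2, (inv_mat r g).1⟩, rfl⟩ hw hgw (hfix _)
    rw [← map_pow, ← r.map_one] at h14
    have h := orderOf_dvd_of_pow_eq_one (hr h14)
    rw [← ho] at h
    have hle := Nat.le_of_dvd (by norm_num) h
    interval_cases o <;> first | (exfalso; omega) | simp
  -- the order is a power of two or three times one
  have h2' : o ∣ 2 ^ 12 * 3 := by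
    have h1 : o ∣ 2 ^ 12 * 3 ^ 4 * 7 ^ 2 :=
      (Nat.Coprime.dvd_mul_right ((Nat.Prime.coprime_iff_not_dvd (by norm_num)).2 n13).symm).1 hdvd
    have h1' : o ∣ 2 ^ 12 * 3 ^ 4 :=
      (Nat.Coprime.dvd_mul_right
        (((Nat.Prime.coprime_iff_not_dvd (by norm_num)).2 h7o).symm.pow_right 2)).1 h1
    have hcop : o.gcd (3 ^ 4) ∣ 3 := by
      obtain ⟨i, hi, hi'⟩ := (Nat.dvd_prime_pow Nat.prime_three).1 (Nat.gcd_dvd_right o (3 ^ 4))
      rcases Nat.lt_or_ge i 2 with hlt | hge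
      · rw [hi']; interval_cases i <;> simp
      · exact absurd ((show 9 ∣ 3 ^ i from pow_dvd_pow 3 hge).trans (hi' ▸ Nat.gcd_dvd_left o (3 ^ 4))) n9
    calc o = o.gcd (2 ^ 12 * 3 ^ 4) := (Nat.gcd_eq_left h1').symm
      _ ∣ o.gcd (2 ^ 12) * o.gcd (3 ^ 4) := Nat.gcd_mul_right_dvd_mul_gcd _ _ _
      _ ∣ 2 ^ 12 * 3 := Nat.mul_dvd_mul (Nat.gcd_dvd_right _ _) hcop
  have hu8 : ∀ u : G, (∃ k : ℕ, orderOf u = 2 ^ k) → u ^ 8 = 1 := by
    intro u hu
    have e : (r u + 1) ^ 8 = 0 := by rw [pow_succ, (h2 u hu).1, zero_mul]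
    rw [show (8 : ℕ) = 2 ^ 3 from rfl, add_one_pow_two_pow] at e
    refine hr ?_
    rw [map_pow, map_one]
    have := congrArg (fun A => A + 1) e
    simpa [add_assoc, add_self_matrix] using this
  by_cases h3o : 3 ∣ o
  · obtain ⟨m, hm⟩ := h3o
    have hm2 : m ∣ 2 ^ 12 := by
      rw [hm, mul_comm (2 ^ 12) 3] at h2'
      exact Nat.dvd_of_mul_dvd_mul_left (by norm_num) h2'
    obtain ⟨a, -, rfl⟩ := (Nat.dvd_prime_pow Nat.prime_two).1 hm2
    have ha : a ≤ 3 := by
      have ho' : orderOf (g ^ 3) = 2 ^ a := by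
        have := hpow (2 ^ a) (Dvd.intro_left _ hm.symm)
        rwa [hm, Nat.mul_div_cancel _ (Nat.two_pow_pos a)] at this
      have := orderOf_dvd_of_pow_eq_one (hu8 _ ⟨a, ho'⟩)
      rw [ho', show (8 : ℕ) = 2 ^ 3 from rfl] at this
      exact (Nat.pow_dvd_pow_iff_le_right (by norm_num)).1 this
    by_cases ha1 : a ≤ 1
    · interval_cases a <;> simp [hm]
    exfalso
    refine hN ?_
    rw [hm]
    have hy : r g ^ 2 ^ a = r (g ^ 2 ^ a) := (map_pow r g _).symm
    have hy3 : orderOf (g ^ 2 ^ a) = 3 := by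
      have := hpow 3 (Dvd.intro _ hm.symm)
      rwa [hm, Nat.mul_div_cancel_left _ (by norm_num : 0 < 3)] at this
    have hS := ((h3 (g ^ 2 ^ a) (fun e => by rw [e, orderOf_one] at hy3; omega)
      ⟨1, by rw [pow_one, hy3]⟩).resolve_left (hnf _)).2
    refine norm_three_zero (a := a) (by omega) (r g) (by simp) hcube ?_ (hy ▸ hS) ?_
    · rw [← map_pow, ← hm, ho, pow_orderOf_eq_one, map_one]
    rintro rfl v hv
    have hu : orderOf (g ^ 3) = 2 ^ 2 := by
      have := hpow (2 ^ 2) (Dvd.intro_left _ hm.symm)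
      rwa [hm, Nat.mul_div_cancel _ (Nat.two_pow_pos 2)] at this
    have hf := (h2 (g ^ 3) ⟨2, hu⟩).2
    rw [map_pow] at hf
    refine hf ?_ v hv
    have h4 : (r g ^ 3 + 1) ^ 4 = (r g ^ 3) ^ 4 + 1 := by
      simpa using add_one_pow_two_pow (r g ^ 3) 2
    have e4 : (g ^ 3) ^ 4 = 1 := by
      rw [show (4 : ℕ) = orderOf (g ^ 3) from hu.symm]; exact pow_orderOf_eq_one _
    rw [h4, ← map_pow, ← map_pow, e4, map_one, add_self_matrix]
  · have ho2 : o ∣ 2 ^ 12 :=
      (Nat.Coprime.dvd_mul_right ((Nat.Prime.coprime_iff_not_dvd Nat.prime_three).2 h3o).symm).1 h2'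
    obtain ⟨a, -, ha⟩ := (Nat.dvd_prime_pow Nat.prime_two).1 ho2
    have ha3 : a ≤ 3 := by
      have := orderOf_dvd_of_pow_eq_one (hu8 g ⟨a, ha⟩)
      rw [← ho, ha, show (8 : ℕ) = 2 ^ 3 from rfl] at this
      exact (Nat.pow_dvd_pow_iff_le_right (by norm_num)).1 this
    rcases Nat.lt_or_ge a 3 with hlt | hge
    · interval_cases a <;> simp [ha]
    · exfalso
      obtain rfl : a = 3 := le_antisymm ha3 hge
      refine hN ?_
      rw [ha, geom_pow_two]
      exact (h2 g ⟨3, ha⟩).1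

end CfsgLib.D4Spec
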