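import Cfsg.Agent.Lib.D4Spectrum.Checks
import Cfsg.Agent.Lib.D4Spectrum.Linear

/-!
The representation of `³D₄(2)` and what the Sylow lists give.
-/

set_option autoImplicit false
set_option maxRecDepth 100000
set_option maxHeartbeats 1000000
set_option linter.unusedSectionVars false

namespace CfsgLib.D4Spec

open Matrix Cfsg.Lie CfsgLib.Chev

variable {K : Type*} [Field K] [CharP K 2]

/-- The natural representation of a subgroup of `D₄(K)`. -/
noncomputable def rhoHom {G : Subgroup (GL chevD4.Idx K)} (hG : G ≤ chevD4.group K) :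
    ↥G →* Matrix Ix Ix K :=
  natHom.comp (Subgroup.inclusion hG)

variable (om : K) (hom : om ^ 3 = om + 1)
include hom

theorem exists_word {G : Subgroup (GL chevD4.Idx K)} (hG : G ≤ chevD4.group K)
    (hgen : twistedD4 K 2 ≤ G) (w : List ℕ) (hw : w.all (fun i => decide (i < 16)) = true) :
    ∃ g : ↥G, rhoHom hG g = mat om (evalW w) := by
  have key : ∀ (w : List ℕ) (A : List ℕ), (∀ i ∈ w, i < 16) → (∃ g : ↥G, rhoHom hG g = mat om A) →
      ∃ g : ↥G, rhoHom hG g = mat om (w.foldl (fun A i => mmul A (Data.gens.getD i one8)) A) := by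
    intro w
    induction w with
    | nil => exact fun A _ h => h
    | cons i w ih =>
      intro A hw ⟨g, hg⟩
      refine ih _ (fun j hj => hw j (List.mem_cons_of_mem _ hj)) ?_
      have hi : i < 16 := hw i List.mem_cons_self
      have hlen : i < genW.length := by rw [chkGenW.2]; exact hi
      have hmem : genW[i] ∈ genW := List.getElem_mem hlen
      have hok : okW genW[i] = true := List.all_eq_true.1 chkGenW.1 _ hmem
      obtain ⟨h, e⟩ := natHom_word om hom hok
      have hx : wordG om genW[i] ∈ G := hgen (wordG_mem om hom hmem)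
      refine ⟨g * ⟨_, hx⟩, ?_⟩
      rw [map_mul, hg, mat_mmul om hom]
      congr 1
      have hget : Data.gens.getD i one8 = wordC genW[i] := by
        rw [List.getD_eq_getElem _ _ (by rw [← chkGens, List.length_map]; exact hlen)]
        simp only [← chkGens, List.getElem_map]
      rw [hget, ← e]
      rfl
  exact key w one8 (by simpa using hw) ⟨1, (map_one _).trans (mat_one8 om).symm⟩

theorem mat_powC (A : List ℕ) : ∀ n : ℕ, mat om (powC A n) = mat om A ^ n
  | 0 => by rw [powC, mat_one8 om, pow_zero]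
  | n + 1 => by rw [powC, mat_mmul om hom, mat_powC A n, pow_succ]

/-- The closure data of a list give a Sylow subgroup. -/
theorem exists_sylow {G : Type*} [Group G] [Finite G] (r : G →* Matrix Ix Ix K)
    (hr : Function.Injective r) {els : List (List ℕ × ℕ × ℕ)} {words : List (List ℕ)}
    (hw : ∀ w ∈ words, ∃ g : G, r g = mat om (evalW w)) (hchk : chkList els words = true)
    {p n : ℕ} [Fact p.Prime] (hlen : els.length = p ^ n) (hdvd : ¬ p ^ (n + 1) ∣ Nat.card G) :
    ∀ g : G, (∃ k : ℕ, orderOf g = p ^ k) →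
      ∃ (c : G) (i : ℕ), i < els.length ∧
        r (c * g * c⁻¹) = mat om (els.getD i ([], 0, 0)).1 := by
  simp only [chkList, Bool.and_eq_true, List.all_eq_true, decide_eq_true_eq, List.mem_range,
    Bool.or_eq_true, beq_iff_eq, List.contains_iff_mem] at hchk
  obtain ⟨⟨⟨⟨⟨-, h0⟩, hwf⟩, hnd⟩, hpar⟩, hcl⟩ := hchk
  set cs := els.map fun e => e.1 with hcs
  have hget : ∀ i < els.length, cs.getD i [] = (els.getD i ([], 0, 0)).1 := fun i hi => by
    rw [List.getD_eq_getElem _ _ (by simpa [hcs] using hi), List.getD_eq_getElem _ _ hi]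
    simp [hcs]
  let S : Set G := {g | ∃ w ∈ words, r g = mat om (evalW w)}
  have hel : ∀ i < els.length, ∃ g ∈ Subgroup.closure S, r g = mat om (cs.getD i []) := by
    intro i
    induction i using Nat.strong_induction_on with
    | _ i ih =>
      intro hi
      rcases eq_or_ne i 0 with rfl | hi0
      · exact ⟨1, one_mem _, by rw [h0, map_one, mat_one8 om]⟩
      obtain ⟨⟨ha, hb⟩, e⟩ := (hpar i hi).resolve_left hi0
      obtain ⟨g, hg, hg'⟩ := ih _ ha (ha.trans hi)
      obtain ⟨s, hs⟩ := hw _ (List.getElem_mem hb)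
      refine ⟨g * s, mul_mem hg (Subgroup.subset_closure ⟨_, List.getElem_mem hb, hs⟩), ?_⟩
      rw [e, mat_mmul om hom, map_mul, hg', hs]
      rw [List.getD_eq_getElem (l := List.map evalW words) [] (by rw [List.length_map]; exact hb),
        List.getElem_map]
  have hclo : ∀ g ∈ Subgroup.closure S, ∃ i < els.length, r g = mat om (cs.getD i []) := by
    have hone : ∃ i < els.length, r 1 = mat om (cs.getD i []) :=
      ⟨0, by rw [hlen]; exact pow_pos (Fact.out : p.Prime).pos n, by rw [h0, map_one, mat_one8 om]⟩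
    intro g hg
    rw [← Subgroup.mem_toSubmonoid, Subgroup.closure_toSubmonoid_of_finite] at hg
    induction hg using Submonoid.closure_induction_right with
    | one => exact hone
    | mul_right a _ s hs ih =>
      obtain ⟨i, hi, e⟩ := ih
      obtain ⟨w, hwm, hs⟩ := hs
      have hmem := hcl (cs.getD i []) (by
        rw [List.getD_eq_getElem _ _ (by simpa [hcs] using hi)]; exact List.getElem_mem _) (evalW w)
        (List.mem_map_of_mem hwm)
      obtain ⟨j, hj, ej⟩ := List.getElem_of_mem hmem
      refine ⟨j, by simpa [hcs] using hj, ?_⟩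
      rw [map_mul, e, hs, ← mat_mmul om hom, List.getD_eq_getElem _ _ hj, ej]
  choose idx hidx1 hidx2 using hclo
  choose el hel1 hel2 using hel
  have hcard : Nat.card ↥(Subgroup.closure S) = p ^ n := by
    rw [← hlen, ← Nat.card_fin els.length]
    refine Nat.card_eq_of_bijective (fun g => (⟨idx g.1 g.2, hidx1 g.1 g.2⟩ : Fin els.length)) ⟨?_, ?_⟩
    · intro a b hab
      refine Subtype.ext (hr ?_)
      rw [hidx2 a.1 a.2, hidx2 b.1 b.2, show idx a.1 a.2 = idx b.1 b.2 from congrArg Fin.val hab]
    · rintro ⟨i, hi⟩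
      refine ⟨⟨el i hi, hel1 i hi⟩, Fin.ext ?_⟩
      have hlt := hidx1 (el i hi) (hel1 i hi)
      have e := mat_inj om hom ?_ ?_ ((hel2 i hi).symm.trans (hidx2 (el i hi) (hel1 i hi)))
      · rw [List.getD_eq_getElem _ _ (by simpa [hcs] using hi),
          List.getD_eq_getElem _ _ (by simpa [hcs] using hlt)] at e
        exact ((hnd.getElem_inj_iff).1 e).symm
      · rw [List.getD_eq_getElem _ _ (by simpa [hcs] using hi)]; exact hwf _ (List.getElem_mem _)
      · rw [List.getD_eq_getElem _ _ (by simpa [hcs] using hlt)]; exact hwf _ (List.getElem_mem _)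
  let P₀ : Sylow p G := Sylow.ofCard (Subgroup.closure S) (by
    rw [hcard]
    congr 1
    obtain ⟨k, hk⟩ : p ^ n ∣ Nat.card G := hcard ▸ Subgroup.card_subgroup_dvd_card _
    have hk0 : k ≠ 0 := fun e => Nat.card_pos.ne' (by rw [hk, e, mul_zero])
    have hkp : ¬ p ∣ k := fun h => hdvd (by rw [hk, pow_succ]; exact mul_dvd_mul_left _ h)
    rw [hk, Nat.factorization_mul (pow_ne_zero _ (Fact.out : p.Prime).ne_zero) hk0]
    simp [(Fact.out : p.Prime).factorization_self, Nat.factorization_eq_zero_of_not_dvd hkp,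
      Nat.Prime.factorization_pow (Fact.out : p.Prime)])
  intro g ⟨k, hk⟩
  have hpg : IsPGroup p ↥(Subgroup.zpowers g) :=
    IsPGroup.of_card (n := k) (by rw [Nat.card_zpowers, hk])
  obtain ⟨Q, hQ⟩ := hpg.exists_le_sylow
  obtain ⟨c, hc⟩ := MulAction.exists_smul_eq G Q P₀
  have hmem : c * g * c⁻¹ ∈ (P₀ : Subgroup G) := by
    rw [← hc, Sylow.coe_subgroup_smul]
    exact ⟨g, hQ (Subgroup.mem_zpowers g), by simp⟩
  refine ⟨c, idx _ hmem, hidx1 _ hmem, ?_⟩
  rw [← hget _ (hidx1 _ hmem)]
  exact hidx2 _ hmem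

end CfsgLib.D4Spec
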