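import Cfsg.Agent.Lib.D4Spectrum.Main

/-!
Groups with the spectrum of `³D₄(2)`: powers of the natural module extended by the group.
-/

set_option autoImplicit false
set_option maxRecDepth 100000
set_option maxHeartbeats 1000000
set_option linter.unusedSectionVars false

namespace CfsgLib.D4Spec

open Matrix Cfsg.Lie CfsgLib.Chev CfsgLib.Chev.D4Root

variable {K : Type*} [Field K] [Fintype K] [CharP K 2] (om : K)
  (hom : om ^ 3 = om + 1) (f : K →+* K) (hf : ∀ t, f t = t ^ 2)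

/-- The representation on the fixed points. -/
noncomputable def rho : ↥(endoD4 f).fix →* Matrix Ix Ix K := rhoHom (Endo.fix_le_group (endoD4 f))

variable (hK : Fintype.card K = 2 ^ 3)
include hf hK

theorem two_isPrimePow : IsPrimePow 2 := Nat.prime_two.prime.isPrimePow

theorem card_fix : Nat.card ↥(endoD4 f).fix = 2 ^ 12 * 3 ^ 4 * 7 ^ 2 * 13 := by
  rw [card_twistD4 f hf hK Nat.prime_two.prime.isPrimePow]; norm_num

theorem twisted_le : twistedD4 K 2 ≤ (endoD4 f).fix :=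
  (fix_eq_twistedD4 f hf hK Nat.prime_two.prime.isPrimePow).ge

include hom

theorem exists_word_fix (w : List ℕ) (hw : w.all (fun i => decide (i < 16)) = true) :
    ∃ g : ↥(endoD4 f).fix, rho f g = mat om (evalW w) :=
  exists_word om hom _ (twisted_le f hf hK) w hw

theorem rho_injective : Function.Injective (rho f) := by
  haveI hsimple : IsSimpleGroup ↥(endoD4 f).fix := by
    rw [fix_eq_twistedD4 f hf hK Nat.prime_two.prime.isPrimePow]
    exact (Cfsg.Agent.S1071.result Nat.prime_two.prime.isPrimePow hK).1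
  rw [← MonoidHom.ker_eq_bot_iff]
  refine (hsimple.eq_bot_or_eq_top_of_normal (rho f).ker inferInstance).resolve_right fun h => ?_
  obtain ⟨g, hg⟩ := exists_word_fix om hom f hf hK [14] (by decide)
  have h1 : rho f g = 1 := (rho f).mem_ker.1 (h ▸ Subgroup.mem_top g)
  rw [hg, ← mat_one8 om] at h1
  have hd : wf (evalW [14]) = true ∧ wf one8 = true ∧ evalW [14] ≠ one8 := by decide +kernel
  exact hd.2.2 (mat_inj om hom hd.1 hd.2.1 h1)

omit hom in
theorem rho_el (k : Fin 6) {c : ℕ} (hc : c < 8) (hom : om ^ 3 = om + 1)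
    (hpar : Par 2 k (el8 om c)) :
    rho f (el f 2 k (el8 om c)) = mat om (layC k.val c) := by
  obtain ⟨hok, hlay⟩ := chkLay k.val k.isLt c hc
  obtain ⟨h, e⟩ := natHom_word om hom hok
  have hw : wordG om (layW k.val c) = D4Root.ev 2 k (el8 om c) := by
    have hsq : el8 om (sq8 c) = el8 om c ^ 2 := el8_sq8 om hom hc
    have hsq2 : el8 om (sq8 (sq8 c)) = (el8 om c ^ 2) ^ 2 := by
      rw [el8_sq8 om hom (c := sq8 c) (dig_lt _ _), hsq]
    fin_cases k <;>
      simp only [wordG, D4Root.ev, layW, D4Root.word, List.getD_cons_zero, List.getD_cons_succ, List.map_cons,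
        List.map_nil, hsq, hsq2, CharTwo.neg_eq]
  rw [hlay (fun hk => chkPar c hc ?_), ← e]
  · show natHom _ = natHom _
    congr 1
    exact Subtype.ext ((coe_el f hf hK hpar).trans hw.symm)
  · refine el8_inj om hom (dig_lt _ _) hc ?_
    rw [el8_sq8 om hom hc]
    refine hpar (size_eq_one.2 ?_)
    rcases hk with hk | hk | hk <;> [left; (right; left); (right; right)] <;> exact Fin.ext hk

/-- The unipotent subgroup in coordinates. -/
theorem lay_code : ∀ g ∈ lay f 0, (rho f g + 1) ^ 7 = 0 ∧ ((rho f g + 1) ^ 4 = 0 →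
    ∀ v : Ix → K, (∀ w, ∃ c : K, (rho f g + 1) ^ 3 *ᵥ w = c • v) → (rho f g + 1) ^ 3 = 0) := by
  intro g hg
  have step : ∀ (k : Fin 6) (n : ↥(endoD4 f).fix), n ∈ lay f k.val →
      ∃ c < 8, ((k = 1 ∨ k = 4 ∨ k = 5) → c < 2) ∧ ∃ m ∈ lay f (k.val + 1),
        rho f n = mat om (layC k.val c) * rho f m := by
    intro k n hn
    obtain ⟨t, ht, hm⟩ := exists_coord f hf hK Nat.prime_two.prime.isPrimePow k hn
    obtain ⟨c, hc, rfl⟩ := exists_el8 om hom hK t
    refine ⟨c, hc, fun hk => chkPar c hc (el8_inj om hom (dig_lt _ _) hc ?_), _, hm, ?_⟩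
    · rw [el8_sq8 om hom hc]; exact ht (size_eq_one.2 hk)
    · rw [← rho_el om f hf hK k hc hom ht, ← map_mul, mul_inv_cancel_left]
  obtain ⟨c0, h0, -, g1, hg1, e0⟩ := step 0 g hg
  obtain ⟨c1, h1, p1, g2, hg2, e1⟩ := step 1 g1 hg1
  obtain ⟨c2, h2, -, g3, hg3, e2⟩ := step 2 g2 hg2
  obtain ⟨c3, h3, -, g4, hg4, e3⟩ := step 3 g3 hg3
  obtain ⟨c4, h4, p4, g5, hg5, e4⟩ := step 4 g4 hg4
  obtain ⟨c5, h5, p5, g6, hg6, e5⟩ := step 5 g5 hg5
  have hone : g6 = 1 := by
    rw [show ((5 : Fin 6) : ℕ) + 1 = 6 from rfl, lay_six f] at hg6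
    exact Subgroup.mem_bot.1 hg6
  have hcode : rho f g = mat om (mmul (mmul (mmul (mmul (mmul (layC 0 c0) (layC 1 c1)) (layC 2 c2))
      (layC 3 c3)) (layC 4 c4)) (layC 5 c5)) := by
    rw [e0, e1, e2, e3, e4, e5, hone, map_one, mul_one]
    simp only [mat_mmul om hom, mul_assoc]
    rfl
  have hchk := chkU c0 h0
  simp only [chkFirst, List.all_eq_true, List.mem_range] at hchk
  have hleaf := hchk c1 (p1 (Or.inl rfl)) c2 h2 c3 h3 c4 (p4 (Or.inr (Or.inl rfl))) c5
    (p5 (Or.inr (Or.inr rfl)))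
  rw [hcode]
  refine leaf_spec om hom ?_ hleaf
  have hlen : ∀ c < 8, (layC 0 c).length = 8 := by decide +kernel
  simp only [mmul, List.length_map, hlen c0 h0]

theorem card_lay : Nat.card ↥(lay f 0) = 2 ^ 12 := by
  rw [← card_posD4 f hf hK Nat.prime_two.prime.isPrimePow]
  have hset : {r | r ∈ sfx 0} = posSet tabD4 := by
    have h : ∀ r < 24, r ∈ sfx 0 ↔ tabD4.half ≤ r := by decide +kernel
    have h2 : ∀ r ∈ sfx 0, r < 24 := by decide +kernel
    ext r
    show r ∈ sfx 0 ↔ tabD4.half ≤ r ∧ r < tabD4.n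
    rw [tabD4_n]
    exact ⟨fun hr => ⟨(h r (h2 r hr)).1 hr, h2 r hr⟩, fun hr => (h r hr.2).2 hr.1⟩
  rw [lay, hset, ← certD4.posUnipotent_eq, inf_comm]
  exact Nat.card_congr
    { toFun := fun x => ⟨(x.1 : GL chevD4.Idx K), ⟨Subgroup.mem_subgroupOf.1 x.2, x.1.2⟩⟩
      invFun := fun x => ⟨⟨x.1, x.2.2⟩, Subgroup.mem_subgroupOf.2 x.2.1⟩
      left_inv := fun _ => rfl
      right_inv := fun _ => rfl }

theorem two_facts (g : ↥(endoD4 f).fix) (hg : ∃ k : ℕ, orderOf g = 2 ^ k) :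
    (rho f g + 1) ^ 7 = 0 ∧ ((rho f g + 1) ^ 4 = 0 →
    ∀ v : Ix → K, (∀ w, ∃ c : K, (rho f g + 1) ^ 3 *ᵥ w = c • v) → (rho f g + 1) ^ 3 = 0) := by
  haveI := Fact.mk Nat.prime_two
  obtain ⟨k, hk⟩ := hg
  let P₀ : Sylow 2 ↥(endoD4 f).fix := Sylow.ofCard (lay f 0) (by
    rw [card_lay om hom f hf hK, card_fix f hf hK]
    congr 1
    rw [show 2 ^ 12 * 3 ^ 4 * 7 ^ 2 * 13 = 2 ^ 12 * (3 ^ 4 * 7 ^ 2 * 13) by norm_num,
      Nat.factorization_mul (by norm_num) (by norm_num), Finsupp.add_apply,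
      Nat.Prime.factorization_pow Nat.prime_two, Finsupp.single_eq_same,
      Nat.factorization_eq_zero_of_not_dvd (show ¬ 2 ∣ 3 ^ 4 * 7 ^ 2 * 13 by norm_num)])
  obtain ⟨Q, hQ⟩ := (IsPGroup.of_card (n := k) (by rw [Nat.card_zpowers, hk]) :
    IsPGroup 2 ↥(Subgroup.zpowers g)).exists_le_sylow
  obtain ⟨c, hc⟩ := MulAction.exists_smul_eq (↥(endoD4 f).fix) Q P₀
  have hmem : c * g * c⁻¹ ∈ lay f 0 := by
    show c * g * c⁻¹ ∈ (P₀ : Subgroup ↥(endoD4 f).fix)
    rw [← hc, Sylow.coe_subgroup_smul]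
    exact ⟨g, hQ (Subgroup.mem_zpowers g), by simp⟩
  obtain ⟨h7, h4⟩ := lay_code om hom f hf hK _ hmem
  obtain ⟨hl, hr⟩ := inv_mat (rho f) c
  have hconj : ∀ n : ℕ, (rho f g + 1) ^ n =
      rho f c⁻¹ * (rho f (c * g * c⁻¹) + 1) ^ n * rho f c := by
    intro n
    induction n with
    | zero => rw [pow_zero, pow_zero, mul_one, hl]
    | succ n ih =>
      rw [pow_succ, ih, pow_succ, conj_mat (rho f) c g]
      simp only [mul_assoc, add_mul, mul_add, one_mul, mul_one, hl]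
  refine ⟨by rw [hconj, h7, mul_zero, zero_mul], fun he v hv => ?_⟩
  have hback : ∀ n : ℕ, (rho f (c * g * c⁻¹) + 1) ^ n = rho f c * (rho f g + 1) ^ n * rho f c⁻¹ := by
    intro n
    rw [hconj n, show rho f c * (rho f c⁻¹ * (rho f (c * g * c⁻¹) + 1) ^ n * rho f c) * rho f c⁻¹ =
      (rho f c * rho f c⁻¹) * (rho f (c * g * c⁻¹) + 1) ^ n * (rho f c * rho f c⁻¹) by
      simp only [mul_assoc], hr, one_mul, mul_one]
  rw [hconj 3, h4 (by rw [hback, he, mul_zero, zero_mul]) (rho f c *ᵥ v) (fun w => ?_), mul_zero,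
    zero_mul]
  obtain ⟨a, ha⟩ := hv (rho f c⁻¹ *ᵥ w)
  exact ⟨a, by rw [hback, ← Matrix.mulVec_mulVec, ← Matrix.mulVec_mulVec, ha, Matrix.mulVec_smul]⟩

/-- The certificates on a conjugate. -/
theorem cert_facts {els : List (List ℕ × ℕ × ℕ)} {words : List (List ℕ)}
    {certs : List (ℕ × List ℕ × List ℕ)} {kind : ℕ} (hl : chkList els words = true)
    (hc : chkCerts els certs kind = true) {p n : ℕ} [Fact p.Prime] (hlen : els.length = p ^ n)
    (hdvd : ¬ p ^ (n + 1) ∣ 2 ^ 12 * 3 ^ 4 * 7 ^ 2 * 13) (g : ↥(endoD4 f).fix) (hg1 : g ≠ 1)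
    (hg : ∃ k : ℕ, orderOf g = p ^ k) :
    ∃ (c : ↥(endoD4 f).fix) (x : List ℕ) (C : ℕ × List ℕ × List ℕ),
      rho f (c * g * c⁻¹) = mat om x ∧ (C.1 = 1 ∨ C.1 = kind) ∧ certOK x C = true := by
  have hw : ∀ w ∈ words, ∃ g : ↥(endoD4 f).fix, rho f g = mat om (evalW w) := by
    intro w hw
    refine exists_word_fix om hom f hf hK w ?_
    simp only [chkList, Bool.and_eq_true, List.all_eq_true] at hl
    exact List.all_eq_true.2 (hl.1.1.1.1.1 w hw)
  have hinj := rho_injective om hom f hf hK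
  obtain ⟨c, i, hi, e⟩ := exists_sylow om hom (rho f) hinj hw hl hlen
    (by rwa [card_fix f hf hK]) g hg
  simp only [chkCerts, List.all_eq_true, List.mem_range, Bool.and_eq_true, Bool.or_eq_true,
    decide_eq_true_eq, beq_iff_eq] at hc
  obtain ⟨hkind, hok⟩ := hc i hi
  refine ⟨c, _, _, e, ?_, hok⟩
  rcases hkind with hle | hk
  · left
    refine le_antisymm hle (Nat.one_le_iff_ne_zero.2 fun h0 => hg1 ?_)
    have hx : (els.getD i ([], 0, 0)).1 = one8 := by
      simp only [certOK, h0, beq_iff_eq] at hok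
      exact hok
    rw [hx, mat_one8, ← (rho f).map_one] at e
    exact conj_eq_one_iff.1 (hinj e)
  · exact Or.inr hk

theorem thirteen_facts (g : ↥(endoD4 f).fix) (hg1 : g ≠ 1) (hg : ∃ k : ℕ, orderOf g = 13 ^ k) :
    FixFree (rho f g) := by
  haveI := Fact.mk (show Nat.Prime 13 by norm_num)
  obtain ⟨c, x, C, e, hk, hok⟩ := cert_facts om hom f hf hK (els := Data.els13) chkList13.1 chkCerts13
    (p := 13) (n := 1) chkList13.2 (by norm_num) g hg1 hg
  have h1 : C.1 = 1 := by omega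
  obtain ⟨hl, -⟩ := inv_mat (rho f) c
  refine fixFree_conj hl ?_
  rw [← conj_mat, e]
  exact fixFree_cert om hom (by simpa [certOK, h1] using hok)

theorem seven_facts (g : ↥(endoD4 f).fix) (hg1 : g ≠ 1) (hg : ∃ k : ℕ, orderOf g = 7 ^ k) :
    FixFree (rho f g) ∨ DoubleOne (rho f g) := by
  haveI := Fact.mk (show Nat.Prime 7 by norm_num)
  obtain ⟨c, x, C, e, hk, hok⟩ := cert_facts om hom f hf hK (els := Data.els7) chkList7.1 chkCerts7
    (p := 7) (n := 2) chkList7.2 (by norm_num) g hg1 hg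
  obtain ⟨hl, hr⟩ := inv_mat (rho f) c
  rcases hk with h1 | h3
  · left
    refine fixFree_conj hl ?_
    rw [← conj_mat, e]
    exact fixFree_cert om hom (by simpa [certOK, h1] using hok)
  · right
    refine doubleOne_conj hl hr ?_
    rw [← conj_mat, e]
    exact doubleOne_cert om hom (by simpa [certOK, h3] using hok)

theorem three_facts (g : ↥(endoD4 f).fix) (hg1 : g ≠ 1) (hg : ∃ k : ℕ, orderOf g = 3 ^ k) :
    FixFree (rho f g) ∨ (rho f g ^ 3 = 1 ∧ SmallFix (rho f g)) := by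
  obtain ⟨c, x, C, e, hk, hok⟩ := cert_facts om hom f hf hK (els := Data.els3) chkList3.1 chkCerts3
    (p := 3) (n := 4) chkList3.2 (by norm_num) g hg1 hg
  obtain ⟨hl, hr⟩ := inv_mat (rho f) c
  rcases hk with h1 | h2
  · left
    refine fixFree_conj hl ?_
    rw [← conj_mat, e]
    exact fixFree_cert om hom (by simpa [certOK, h1] using hok)
  · right
    obtain ⟨h3, hs⟩ := smallFix_cert om hom (x := x) (A := C.2.1) (B := C.2.2)
      (by simpa [certOK, h2] using hok)
    refine ⟨?_, smallFix_conj hl hr (by rw [← conj_mat, e]; exact hs)⟩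
    rw [← e] at h3
    rw [← map_pow] at h3 ⊢
    rw [← (rho f).map_one] at h3
    have h := rho_injective om hom f hf hK h3
    rw [conj_pow] at h
    rw [conj_eq_one_iff.1 h, map_one]

/-- The norm of every element vanishes unless its double is the order of an element. -/
theorem norm_or_double (g : ↥(endoD4 f).fix) :
    (∑ j ∈ Finset.range (orderOf g), rho f g ^ j) = 0 ∨
      ∃ h : ↥(endoD4 f).fix, orderOf h = 2 * orderOf g := by
  rcases norm_spec om hom (rho f) (rho_injective om hom f hf hK) (card_fix f hf hK) hK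
    (two_facts om hom f hf hK) (thirteen_facts om hom f hf hK) (seven_facts om hom f hf hK)
    (three_facts om hom f hf hK) g with h | h
  · exact Or.inl h
  right
  have hord : ∀ e ∈ ordW, ∃ h : ↥(endoD4 f).fix, orderOf h = e.1 := by
    intro e he
    have hc := List.all_eq_true.1 chkOrd e he
    simp only [Bool.and_eq_true, beq_iff_eq, List.all_eq_true, Bool.not_eq_true',
      decide_eq_true_eq] at hc
    obtain ⟨⟨hw, h1⟩, hd⟩ := hc
    obtain ⟨x, hx⟩ := exists_word_fix om hom f hf hK e.2.1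
      (List.all_eq_true.2 fun i hi => decide_eq_true (hw i hi))
    refine ⟨x, Nat.dvd_antisymm ?_ ?_⟩
    · refine orderOf_dvd_of_pow_eq_one (rho_injective om hom f hf hK ?_)
      rw [map_pow, hx, ← mat_powC om hom, h1, mat_one8, map_one]
    · have hnot : ∀ d ∈ e.2.2, ¬ orderOf x ∣ d := by
        intro d hd' hdvd
        have hx1 : mat om (powC (evalW e.2.1) d) = mat om one8 := by
          rw [mat_powC om hom, ← hx, ← map_pow, orderOf_dvd_iff_pow_eq_one.1 hdvd, map_one, mat_one8]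
        have hall : ∀ e ∈ ordW, ∀ d ∈ e.2.2, wf (powC (evalW e.2.1) d) = true := by decide +kernel
        have := mat_inj om hom (hall e he d hd') (by decide) hx1
        simpa [this] using hd d hd'
      have hdv : orderOf x ∣ e.1 := by
        refine orderOf_dvd_of_pow_eq_one (rho_injective om hom f hf hK ?_)
        rw [map_pow, hx, ← mat_powC om hom, h1, mat_one8, map_one]
      have hdivs : ∀ e ∈ ordW, ∀ m ∈ Nat.divisors e.1, m = e.1 ∨ ∃ d ∈ e.2.2, m ∣ d := by
        decide +kernel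
      have hne : e.1 ≠ 0 := by
        have : ∀ e ∈ ordW, e.1 ≠ 0 := by decide
        exact this e he
      rcases hdivs e he (orderOf x) (Nat.mem_divisors.2 ⟨hdv, hne⟩) with h' | ⟨d, hd1, hd2⟩
      · rw [h']
      · exact absurd hd2 (hnot d hd1)
  have key : ∀ n ∈ ({1, 2, 3, 4, 6, 7, 14} : Finset ℕ), ∃ e ∈ ordW, e.1 = 2 * n := by decide
  obtain ⟨e, he, he'⟩ := key _ h
  obtain ⟨x, hx⟩ := hord e he
  exact ⟨x, hx.trans he'⟩

end CfsgLib.D4Spec
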